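import Groth.Agent.LineDesc.Hilbert90
import Mathlib.RingTheory.RingHom.FaithfullyFlat
import Mathlib.RingTheory.Flat.FaithfullyFlat.Algebra
import Mathlib.Algebra.Polynomial.Expand
import Mathlib.Algebra.Polynomial.Derivative
import Mathlib.RingTheory.Nilpotent.Lemmas
import Mathlib.RingTheory.Polynomial.Nilpotent
import Mathlib.Algebra.CharP.Frobenius
import Mathlib.Algebra.CharP.Algebra
import Mathlib.Data.ZMod.Basic
import Mathlib.RingTheory.Localization.FractionRing

/-!
# Multiplicative descent data with a `p`-th power trivialisation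

A multiplicative descent datum on a faithfully flat algebra has invariant elements which generate locally; if its
`p`-th power is trivial and the transition functions of that trivialisation are `p`-th powers up to nilpotents, it is
trivial.  Over `R[X]` with surjective Frobenius on `R` the last condition is automatic.
-/

set_option autoImplicit false

set_option linter.style.haveILetI false

universe u

open TensorProduct Algebra.TensorProduct

namespace Groth.Agent.GaExt

open LineDesc

variable {A S : Type u} [CommRing A] [CommRing S] [Algebra A S]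

/-- A multiplicative descent datum with an inverse. -/
structure IsCoc (g h : S ⊗[A] S) : Prop where
  mul_eq : g * h = 1
  diag : Algebra.TensorProduct.lmul' A g = 1
  coc : m23 A S g * m12 A S g = m13 A S g

theorem IsCoc.symm {g h : S ⊗[A] S} (hg : IsCoc g h) : IsCoc h g where
  mul_eq := by rw [mul_comm]; exact hg.mul_eq
  diag := by
    have := congrArg (Algebra.TensorProduct.lmul' A) hg.mul_eq
    rwa [map_mul, map_one, hg.diag, one_mul] at this
  coc := by
    have h1 : ∀ φ : S ⊗[A] S →ₐ[A] S ⊗[A] (S ⊗[A] S), φ g * φ h = 1 := fun φ => by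
      rw [← map_mul, hg.mul_eq, map_one]
    calc m23 A S h * m12 A S h = (m13 A S g * m13 A S h) * (m23 A S h * m12 A S h) := by rw [h1, one_mul]
      _ = (m23 A S g * m23 A S h) * (m12 A S g * m12 A S h) * m13 A S h := by rw [← hg.coc]; ring
      _ = m13 A S h := by rw [h1, h1, one_mul, one_mul]

theorem invSet_mul {g h : S ⊗[A] S} {s w : S} (hs : s ∈ invSet g) (hw : w ∈ invSet h) :
    s * w ∈ invSet (g * h) := by
  show g * h * ((s * w) ⊗ₜ[A] 1) = 1 ⊗ₜ[A] (s * w)
  rw [show (s * w) ⊗ₜ[A] (1 : S) = (s ⊗ₜ[A] (1 : S)) * (w ⊗ₜ[A] (1 : S)) by simp,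
    show (1 : S) ⊗ₜ[A] (s * w) = ((1 : S) ⊗ₜ[A] s) * ((1 : S) ⊗ₜ[A] w) by simp,
    show g * h * ((s ⊗ₜ[A] (1 : S)) * (w ⊗ₜ[A] (1 : S))) = (g * (s ⊗ₜ[A] (1 : S))) * (h * (w ⊗ₜ[A] (1 : S))) by
      ring]
  rw [show g * (s ⊗ₜ[A] (1 : S)) = 1 ⊗ₜ[A] s from hs, show h * (w ⊗ₜ[A] (1 : S)) = 1 ⊗ₜ[A] w from hw]

theorem invSet_pow {g : S ⊗[A] S} {s : S} (hs : s ∈ invSet g) (n : ℕ) : s ^ n ∈ invSet (g ^ n) := by
  induction n with
  | zero => show g ^ 0 * _ = _; simp
  | succ n ih => rw [pow_succ, pow_succ]; exact invSet_mul ih hs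

theorem invSet_algebraMap_mul {g : S ⊗[A] S} {s : S} (hs : s ∈ invSet g) (c : A) :
    algebraMap A S c * s ∈ invSet g := by
  have h1 : algebraMap A S c ∈ invSet (1 : S ⊗[A] S) := by
    show 1 * _ = _
    rw [one_mul, Algebra.algebraMap_eq_smul_one, TensorProduct.smul_tmul]
  have := invSet_mul h1 hs
  rwa [one_mul] at this

theorem invSet_add {g : S ⊗[A] S} {s t : S} (hs : s ∈ invSet g) (ht : t ∈ invSet g) : s + t ∈ invSet g := by
  show g * _ = _
  rw [TensorProduct.add_tmul, mul_add, TensorProduct.tmul_add, show g * _ = _ from hs, show g * _ = _ from ht]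

theorem invSet_zero (g : S ⊗[A] S) : (0 : S) ∈ invSet g := by
  show g * _ = _
  simp

theorem invSet_sum {g : S ⊗[A] S} {ι : Type*} (T : Finset ι) (s : ι → S) (hs : ∀ i ∈ T, s i ∈ invSet g) :
    ∑ i ∈ T, s i ∈ invSet g := by
  classical
  induction T using Finset.induction_on with
  | empty => simpa using invSet_zero g
  | insert i T hi ih =>
    rw [Finset.sum_insert hi]
    exact invSet_add (hs i (Finset.mem_insert_self _ _)) (ih fun j hj => hs j (Finset.mem_insert_of_mem hj))

variable [Module.FaithfullyFlat A S]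

theorem exists_algebraMap_eq {x : S} (hx : x ∈ invSet (1 : S ⊗[A] S)) : ∃ a : A, algebraMap A S a = x := by
  let N := LinearMap.range (Algebra.linearMap A S)
  have h1 : x ⊗ₜ[A] (1 : S) = 1 ⊗ₜ[A] x := by simpa [invSet] using hx
  have h2 : (1 : S) ⊗ₜ[A] N.mkQ x = 0 := by
    have h3 := congrArg (LinearMap.lTensor S N.mkQ) h1
    rw [LinearMap.lTensor_tmul, LinearMap.lTensor_tmul,
      show N.mkQ (1 : S) = 0 from (Submodule.Quotient.mk_eq_zero N).2 ⟨1, by simp⟩, TensorProduct.tmul_zero] at h3
    exact h3.symm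
  rw [Module.FaithfullyFlat.one_tmul_eq_zero_iff] at h2
  exact (Submodule.Quotient.mk_eq_zero N).1 h2

/-- Finitely many products of invariant elements of a datum and of its inverse sum to `1` in the base. -/
theorem exists_pairs {g h : S ⊗[A] S} (hg : IsCoc g h) :
    ∃ (n : ℕ) (s w : Fin n → S) (f : Fin n → A), (∀ l, s l ∈ invSet g) ∧ (∀ l, w l ∈ invSet h) ∧
      (∀ l, algebraMap A S (f l) = s l * w l) ∧ ∑ l, f l = 1 := by
  classical
  let P : Set A := {a | ∃ s ∈ invSet g, ∃ w ∈ invSet h, algebraMap A S a = s * w}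
  have hJ : (Ideal.span P).map (algebraMap A S) = ⊤ := by
    have h0 : Ideal.span (invSet g) * Ideal.span (invSet h) = ⊤ := by
      rw [span_invSet g hg.diag hg.coc, span_invSet h hg.symm.diag hg.symm.coc, Ideal.top_mul]
    rw [← top_le_iff, ← h0, Ideal.span_mul_span', Ideal.span_le]
    rintro _ ⟨s, hs, w, hw, rfl⟩
    obtain ⟨a, ha⟩ := exists_algebraMap_eq (x := s * w) (hg.mul_eq ▸ invSet_mul hs hw)
    show s * w ∈ _
    rw [← ha]
    exact Ideal.mem_map_of_mem _ (Ideal.subset_span ⟨s, hs, w, hw, ha⟩)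
  have htop : (1 : A) ∈ Ideal.span P := by
    rw [← Ideal.comap_map_eq_self_of_faithfullyFlat (B := S) (Ideal.span P), hJ]
    exact Submodule.mem_top
  obtain ⟨c, hcP, hc⟩ := Submodule.mem_span_set.1 htop
  let e := c.support.equivFin
  choose s hs w hw hsw using fun x : c.support => hcP x.2
  refine ⟨_, fun l => algebraMap A S (c (e.symm l)) * s (e.symm l), fun l => w (e.symm l),
    fun l => c (e.symm l) * (e.symm l).1, fun l => invSet_algebraMap_mul (hs _) _, fun l => hw _, fun l => ?_, ?_⟩
  · rw [map_mul, hsw, mul_assoc]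
  · rw [e.symm.sum_comp (fun x => c x * (x : A)), ← hc, Finsupp.sum]
    simp only [smul_eq_mul]
    exact Finset.sum_coe_sort c.support (fun x => c x * x)

/-- The transition functions attached to a trivialisation `b` of the `p`-th power. -/
def Good (A : Type u) [CommRing A] (p : ℕ) : Prop :=
  ∀ (n : ℕ) (u v f : Fin n → A) (a : Fin n → Fin n → A), ∑ l, f l = 1 → (∀ l, u l * v l = f l ^ p) →
    (∀ l m, u l * f m ^ p = a l m ^ p * u m) → ∀ l, ∃ d : A, IsNilpotent (d ^ p - u l)

/-- A datum whose `p`-th power is trivial is trivial if the base is good. -/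
theorem exists_unit (p : ℕ) [Fact p.Prime] [CharP A p] (hA : Good A p) {g h : S ⊗[A] S} (hg : IsCoc g h)
    {b : S} (hb : IsUnit b) (hgb : b ∈ invSet (g ^ p)) : ∃ t : S, IsUnit t ∧ t ∈ invSet g := by
  classical
  obtain ⟨n, s, w, f, hs, hw, hsw, hf⟩ := exists_pairs hg
  obtain ⟨b', hbb'⟩ := hb.exists_right_inv
  have hb' : b' ∈ invSet (h ^ p) := by
    show h ^ p * (b' ⊗ₜ[A] 1) = 1 ⊗ₜ[A] b'
    have h1 : g ^ p * (b ⊗ₜ[A] (1 : S)) = 1 ⊗ₜ[A] b := hgb
    have h2 : ((1 : S) ⊗ₜ[A] b) * ((1 : S) ⊗ₜ[A] b') = 1 := by simp [hbb', Algebra.TensorProduct.one_def]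
    have h3 : (b ⊗ₜ[A] (1 : S)) * (b' ⊗ₜ[A] (1 : S)) = 1 := by simp [hbb', Algebra.TensorProduct.one_def]
    calc h ^ p * (b' ⊗ₜ[A] (1 : S))
        = h ^ p * (b' ⊗ₜ[A] (1 : S)) * (((1 : S) ⊗ₜ[A] b) * ((1 : S) ⊗ₜ[A] b')) := by rw [h2, mul_one]
      _ = (g * h) ^ p * ((b ⊗ₜ[A] (1 : S)) * (b' ⊗ₜ[A] (1 : S))) * ((1 : S) ⊗ₜ[A] b') := by rw [← h1]; ring
      _ = 1 ⊗ₜ[A] b' := by rw [hg.mul_eq, h3, one_pow, one_mul, one_mul]
  have hhg : h ^ p * g ^ p = 1 := by rw [← mul_pow, mul_comm, hg.mul_eq, one_pow]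
  have hgh : g ^ p * h ^ p = 1 := by rw [← mul_pow, hg.mul_eq, one_pow]
  choose u hu using fun l => exists_algebraMap_eq (x := w l ^ p * b)
    (hhg ▸ invSet_mul (invSet_pow (hw l) p) hgb)
  choose v hv using fun l => exists_algebraMap_eq (x := s l ^ p * b')
    (hgh ▸ invSet_mul (invSet_pow (hs l) p) hb')
  choose a ha using fun l m => exists_algebraMap_eq (x := w l * s m)
    (hg.symm.mul_eq ▸ invSet_mul (hw l) (hs m))
  have hinj := FaithfulSMul.algebraMap_injective A S
  obtain ⟨d, hd⟩ : ∃ d : Fin n → A, ∀ l, IsNilpotent (d l ^ p - u l) := by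
    choose d hd using hA n u v f a hf
      (fun l => hinj (by
        rw [map_mul, map_pow, hu, hv, hsw]
        linear_combination (s l * w l) ^ p * hbb'))
      (fun l m => hinj (by simp only [map_mul, map_pow, hu, hsw, ha]; ring))
    exact ⟨d, hd⟩
  refine ⟨∑ l, algebraMap A S (d l) * s l, ?_, invSet_sum _ _ fun l _ => invSet_algebraMap_mul (hs l) _⟩
  refine (isUnit_pow_iff (Fact.out : p.Prime).ne_zero).1 ?_
  haveI : CharP S p := charP_of_injective_ringHom hinj p
  rw [sum_pow_char]
  have h1 : (∑ l, (algebraMap A S (d l) * s l) ^ p) =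
      b + ∑ l, algebraMap A S (d l ^ p - u l) * s l ^ p := by
    have h2 : b = ∑ l, algebraMap A S (u l) * s l ^ p := by
      have h3 : ∀ l, algebraMap A S (u l) * s l ^ p = b * algebraMap A S (f l ^ p) := fun l => by
        rw [hu, map_pow, hsw]; ring
      rw [Finset.sum_congr rfl fun l _ => h3 l, ← Finset.mul_sum, ← map_sum, ← sum_pow_char, hf, one_pow, map_one,
        mul_one]
    conv_rhs => arg 1; rw [h2]
    rw [← Finset.sum_add_distrib]
    exact Finset.sum_congr rfl fun l _ => by rw [map_sub, map_pow]; ring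
  rw [h1]
  exact IsNilpotent.isUnit_add_left_of_commute
    (isNilpotent_sum fun l _ => (Commute.all _ _).isNilpotent_mul_right ((hd l).map (algebraMap A S))) hb (Commute.all _ _)

section Polynomial

open Polynomial

variable {p : ℕ} [Fact p.Prime]

theorem derivative_eq_zero_domain {K : Type u} [Field K] [CharP K p] {n : ℕ} (u v f : Fin n → K[X])
    (a : Fin n → Fin n → K[X]) (hf : ∑ l, f l = 1) (huv : ∀ l, u l * v l = f l ^ p)
    (hua : ∀ l m, u l * f m ^ p = a l m ^ p * u m) (l : Fin n) : derivative (u l) = 0 := by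
  have hD : ∀ q : K[X], derivative (q ^ p) = 0 := fun q => by
    rw [derivative_pow, CharP.cast_eq_zero K p, map_zero, zero_mul, zero_mul]
  have hrel : ∀ l m, derivative (u l) * f m ^ p = a l m ^ p * derivative (u m) := fun l m => by
    have := congrArg derivative (hua l m)
    simpa only [derivative_mul, hD, mul_zero, add_zero, zero_mul, zero_add] using this
  let G : K[X] := ∑ j, v j * derivative (u j)
  have hne : ∀ m, f m ≠ 0 → derivative (u m) = 0 := by
    intro m hm
    have h1 : u m * G = derivative (u m) := by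
      apply mul_right_cancel₀ (pow_ne_zero p hm)
      calc u m * G * f m ^ p = ∑ j, v j * u m * (derivative (u j) * f m ^ p) := by
            simp only [G, Finset.mul_sum, Finset.sum_mul]; exact Finset.sum_congr rfl fun j _ => by ring
        _ = ∑ j, f j ^ p * (f m ^ p * derivative (u m)) := Finset.sum_congr rfl fun j _ => by
            rw [hrel j m]
            linear_combination (f m ^ p * derivative (u m)) * huv j - v j * derivative (u m) * hua j m
        _ = derivative (u m) * f m ^ p := by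
            rw [← Finset.sum_mul, ← sum_pow_char, hf, one_pow, one_mul, mul_comm]
    rcases eq_or_ne (u m) 0 with hu | hu
    · rw [hu, map_zero]
    · by_contra hne'
      have hG : G ≠ 0 := fun h => hne' (by rw [← h1, h, mul_zero])
      have hlt := degree_derivative_lt hu
      rw [← h1, degree_mul] at hlt
      exact absurd hlt (not_lt.2 (le_add_of_nonneg_right (zero_le_degree_iff.2 hG)))
  rcases eq_or_ne (f l) 0 with hl | hl
  · obtain ⟨j, hj⟩ : ∃ j, f j ≠ 0 := by
      by_contra h
      push Not at h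
      exact one_ne_zero (hf.symm.trans (Finset.sum_eq_zero fun j _ => h j))
    have := hrel l j
    rw [hne j hj, mul_zero] at this
    exact (mul_eq_zero.1 this).resolve_right (pow_ne_zero _ hj)
  · exact hne l hl

/-- Polynomials over a ring with surjective Frobenius are good. -/
theorem good_polynomial {R : Type u} [CommRing R] [CharP R p] (hF : Function.Surjective (frobenius R p)) :
    Good R[X] p := by
  intro n u v f a hf huv hua l
  have hnil : ∀ i, IsNilpotent ((derivative (u l)).coeff i) := by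
    intro i
    rw [← mem_nilradical, nilradical_eq_sInf, Ideal.mem_sInf]
    intro P hP
    haveI : P.IsPrime := hP
    let K := FractionRing (R ⧸ P)
    let φ : R →+* K := (algebraMap (R ⧸ P) K).comp (Ideal.Quotient.mk P)
    haveI : CharP K p := (CharP.charP_iff_prime_eq_zero Fact.out).2 (by rw [← map_natCast φ, CharP.cast_eq_zero, map_zero])
    let ψ := Polynomial.mapRingHom φ
    have h := derivative_eq_zero_domain (fun j => ψ (u j)) (fun j => ψ (v j)) (fun j => ψ (f j))
      (fun i j => ψ (a i j)) (by rw [← map_sum, hf, map_one]) (fun j => by rw [← map_mul, huv, map_pow])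
      (fun i j => by rw [← map_pow, ← map_mul, hua, map_mul, map_pow]) l
    have h' := congrArg (fun q => q.coeff i) h
    simp only [ψ, coe_mapRingHom, derivative_map, coeff_map, coeff_zero] at h'
    rw [show φ ((derivative (u l)).coeff i) = algebraMap (R ⧸ P) K (Ideal.Quotient.mk P ((derivative (u l)).coeff i))
      from rfl, FaithfulSMul.algebraMap_eq_zero_iff, Ideal.Quotient.eq_zero_iff_mem] at h'
    exact h'
  have hp : p.Prime := Fact.out
  obtain ⟨d, hd⟩ := map_surjective (frobenius R p) hF (contract p (u l))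
  refine ⟨d, Polynomial.isNilpotent_iff.2 fun i => ?_⟩
  have hdp : d ^ p = expand R p (contract p (u l)) := by rw [← hd, ← map_expand, map_frobenius_expand]
  rw [coeff_sub, hdp, coeff_expand hp.pos]
  split_ifs with hdvd
  · rw [coeff_contract hp.ne_zero, Nat.div_mul_cancel hdvd, sub_self]
    exact IsNilpotent.zero
  · rw [zero_sub]
    apply IsNilpotent.neg
    obtain ⟨j, rfl⟩ : ∃ j, i = j + 1 := ⟨i - 1, by
      have : i ≠ 0 := fun h => hdvd (h ▸ dvd_zero p)
      omega⟩
    have h1 := hnil j
    rw [coeff_derivative] at h1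
    obtain ⟨c, hc⟩ := ((ZMod.isUnit_iff_coprime (j + 1) p).2
      (Nat.Coprime.symm (hp.coprime_iff_not_dvd.2 hdvd))).map (ZMod.castHom (dvd_refl p) R) |>.exists_right_inv
    rw [map_natCast] at hc
    have h2 := (Commute.all _ c).isNilpotent_mul_right h1
    have h3 : (u l).coeff (j + 1) * ((j : R) + 1) * c = (u l).coeff (j + 1) := by
      rw [mul_assoc]; push_cast at hc; rw [hc, mul_one]
    rwa [h3] at h2

end Polynomial

end Groth.Agent.GaExt
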