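import Groth.Agent.GaChar.MulCocycle
import Mathlib.RingTheory.MvPolynomial.Ideal
import Mathlib.RingTheory.MvPolynomial.Homogeneous

/-!
# Multiplicative symmetric cocycles on a truncated additive group

Modulo the `p^n`-th powers of the variables a symmetric multiplicative cocycle is a coboundary when the base
has surjective Frobenius: we induct on the degree, and compute a step after scaling the variables by `t` with `t^(m+1) = 0`.
-/

set_option autoImplicit false
set_option linter.style.haveILetI false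

universe u

open MvPolynomial Groth.Agent.GaChar

namespace Groth.Agent.GaExt

variable {R : Type u} [CommRing R] {σ τ : Type}

/-- The exponents which die in degree `m` and above or at `q` in one variable. -/
def low (σ : Type) (q m : ℕ) : Set (σ →₀ ℕ) := {e | (∃ i, q ≤ e i) ∨ m ≤ e.degree}

/-- The ideal of the `q`-th powers and of degree at least `m`. -/
noncomputable def trI (R : Type u) [CommRing R] (σ : Type) (q m : ℕ) : Ideal (MvPolynomial σ R) :=
  Ideal.span ((fun e => monomial e 1) '' low σ q m)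

/-- The ideal of the `q`-th powers. -/
noncomputable def qI (R : Type u) [CommRing R] (σ : Type) (q : ℕ) : Ideal (MvPolynomial σ R) :=
  Ideal.span (Set.range fun i => X i ^ q)

theorem mem_trI {q m : ℕ} {P : MvPolynomial σ R} : P ∈ trI R σ q m ↔ ∀ e, coeff e P ≠ 0 → e ∈ low σ q m := by
  rw [trI, mem_ideal_span_monomial_image]
  refine ⟨fun h e he => ?_, fun h e he => ⟨e, h e (mem_support_iff.1 he), le_rfl⟩⟩
  obtain ⟨s, hs, hse⟩ := h e (mem_support_iff.2 he)
  rcases hs with ⟨i, hi⟩ | hs
  · exact Or.inl ⟨i, hi.trans (hse i)⟩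
  · refine Or.inr (hs.trans ?_)
    obtain ⟨d, rfl⟩ := exists_add_of_le hse
    rw [map_add]
    exact Nat.le_add_right _ _

theorem qI_le_trI (q m : ℕ) : qI R σ q ≤ trI R σ q m := by
  rw [qI, Ideal.span_le]
  rintro _ ⟨i, rfl⟩
  exact Ideal.subset_span ⟨Finsupp.single i q, Or.inl ⟨i, by simp⟩, (X_pow_eq_monomial).symm⟩

theorem trI_le_qI (q : ℕ) : trI R (Fin 2) q (2 * q) ≤ qI R (Fin 2) q := by
  rw [trI, Ideal.span_le]
  rintro _ ⟨e, he, rfl⟩
  obtain ⟨i, hi⟩ : ∃ i, q ≤ e i := by
    rcases he with he | he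
    · exact he
    · by_contra h
      push Not at h
      have h0 := h 0
      have h1 := h 1
      rw [Finsupp.degree_eq_sum, Fin.sum_univ_two] at he
      omega
  obtain ⟨d, hd⟩ := exists_add_of_le (show Finsupp.single i q ≤ e from Finsupp.single_le_iff.2 hi)
  show monomial e 1 ∈ qI R (Fin 2) q
  rw [hd, show monomial (Finsupp.single i q + d) (1 : R) = X i ^ q * monomial d 1 by
    rw [X_pow_eq_monomial, monomial_mul, one_mul]]
  exact Ideal.mul_mem_right _ _ (Ideal.subset_span ⟨i, rfl⟩)

theorem trI_mul {q a b : ℕ} {P Q : MvPolynomial σ R} (hP : P ∈ trI R σ q a) (hQ : Q ∈ trI R σ q b) :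
    P * Q ∈ trI R σ q (a + b) := by
  have h : trI R σ q a * trI R σ q b ≤ trI R σ q (a + b) := by
    rw [trI, trI, Ideal.span_mul_span', Ideal.span_le]
    rintro _ ⟨_, ⟨e, he, rfl⟩, _, ⟨e', he', rfl⟩, rfl⟩
    refine Ideal.subset_span ⟨e + e', ?_, by simp only; rw [monomial_mul, one_mul]⟩
    rcases he with ⟨i, hi⟩ | he
    · exact Or.inl ⟨i, by rw [Finsupp.add_apply]; omega⟩
    rcases he' with ⟨i, hi⟩ | he'
    · exact Or.inl ⟨i, by rw [Finsupp.add_apply]; omega⟩
    · exact Or.inr (by rw [map_add]; omega)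
  exact h (Ideal.mul_mem_mul hP hQ)

theorem trI_anti {q a b : ℕ} (h : a ≤ b) : trI R σ q b ≤ trI R σ q a :=
  Ideal.span_mono (Set.image_mono fun _ he => he.imp id h.trans)

theorem mem_trI_of_isHomogeneous {q m : ℕ} {P : MvPolynomial σ R} (hP : P.IsHomogeneous m) : P ∈ trI R σ q m :=
  mem_trI.2 fun e he => Or.inr (le_of_eq (not_not.1 fun h => he (hP.coeff_eq_zero (Ne.symm h))))

theorem aeval_mem_qI {q : ℕ} (v : σ → MvPolynomial τ R) (hvq : ∀ i, v i ^ q ∈ qI R τ q)
    {P : MvPolynomial σ R} (hP : P ∈ qI R σ q) : aeval v P ∈ qI R τ q := by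
  have h : qI R σ q ≤ (qI R τ q).comap (aeval v : MvPolynomial σ R →ₐ[R] _) := by
    rw [qI, Ideal.span_le]
    rintro _ ⟨i, rfl⟩
    show (aeval v : MvPolynomial σ R →ₐ[R] _) (X i ^ q) ∈ qI R τ q
    rw [map_pow, aeval_X]
    exact hvq i
  exact h hP

theorem aeval_mem_trI {q m : ℕ} (v : σ → MvPolynomial τ R) (hv : ∀ i, (v i).IsHomogeneous 1)
    (hvq : ∀ i, v i ^ q ∈ qI R τ q) {P : MvPolynomial σ R} (hP : P ∈ trI R σ q m) :
    aeval v P ∈ trI R τ q m := by
  have h : trI R σ q m ≤ (trI R τ q m).comap (aeval v : MvPolynomial σ R →ₐ[R] _) := by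
    rw [trI, Ideal.span_le]
    rintro _ ⟨e, he, rfl⟩
    show (aeval v : MvPolynomial σ R →ₐ[R] _) (monomial e 1) ∈ trI R τ q m
    rcases he with ⟨i, hi⟩ | he
    · apply qI_le_trI
      refine aeval_mem_qI v hvq ?_
      obtain ⟨d, hd⟩ := exists_add_of_le (show Finsupp.single i q ≤ e from Finsupp.single_le_iff.2 hi)
      rw [hd, show monomial (Finsupp.single i q + d) (1 : R) = X i ^ q * monomial d 1 by
        rw [X_pow_eq_monomial, monomial_mul, one_mul]]
      exact Ideal.mul_mem_right _ _ (Ideal.subset_span ⟨i, rfl⟩)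
    · have h1 := (isHomogeneous_monomial (1 : R) (rfl : e.degree = _)).aeval v hv
      rw [one_mul] at h1
      exact trI_anti he (mem_trI_of_isHomogeneous h1)
  exact h hP

section Scale

variable (R)

/-- Scalars with a variable killed in degree `m + 1`. -/
abbrev ScR (m : ℕ) : Type u := Polynomial R ⧸ Ideal.span {(Polynomial.X : Polynomial R) ^ (m + 1)}

/-- The scaling parameter. -/
noncomputable def scT (m : ℕ) : ScR R m := Ideal.Quotient.mk _ Polynomial.X

variable {R}

/-- Scale all the variables. -/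
noncomputable def scale (σ : Type) (m : ℕ) : MvPolynomial σ R →ₐ[R] MvPolynomial σ (ScR R m) :=
  aeval fun i => C (scT R m) * X i

theorem scT_pow (m : ℕ) {d : ℕ} (hd : m + 1 ≤ d) : scT R m ^ d = 0 := by
  rw [scT, ← map_pow, Ideal.Quotient.eq_zero_iff_mem]
  exact Ideal.mem_span_singleton.2 (pow_dvd_pow _ hd)

theorem eq_zero_of_mul_scT {m d : ℕ} (hd : d ≤ m) {c : R} (h : algebraMap R (ScR R m) c * scT R m ^ d = 0) :
    c = 0 := by
  rw [scT, ← map_pow, show algebraMap R (ScR R m) c = Ideal.Quotient.mk _ (Polynomial.C c) from rfl,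
    ← map_mul, Ideal.Quotient.eq_zero_iff_mem, Ideal.mem_span_singleton, Polynomial.X_pow_dvd_iff] at h
  simpa using h d (by omega)

theorem coeff_scale (m : ℕ) (P : MvPolynomial σ R) (e : σ →₀ ℕ) :
    coeff e (scale σ m P) = algebraMap R _ (coeff e P) * scT R m ^ e.degree := by
  induction P using MvPolynomial.induction_on' with
  | add P Q hP hQ => rw [map_add, coeff_add, hP, hQ, coeff_add, map_add, add_mul]
  | monomial d c =>
    classical
    rw [scale, aeval_monomial]
    simp only [mul_pow, Finsupp.prod, Finset.prod_mul_distrib, ← map_pow, ← map_prod]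
    rw [show ∏ x ∈ d.support, (X x : MvPolynomial σ (ScR R m)) ^ d x = monomial d 1 from
      prod_X_pow_eq_monomial,
      Finset.prod_pow_eq_pow_sum, MvPolynomial.algebraMap_apply, ← mul_assoc, ← map_mul, coeff_C_mul,
      coeff_monomial, coeff_monomial]
    split_ifs with h
    · subst h; rw [mul_one]; rfl
    · simp

theorem scale_eq_of_homogeneous {m : ℕ} {P : MvPolynomial σ R} (hP : P.IsHomogeneous m) :
    scale σ m P = C (scT R m ^ m) * MvPolynomial.map (algebraMap R (ScR R m)) P := by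
  ext e
  rw [coeff_scale, coeff_C_mul, coeff_map]
  by_cases he : e.degree = m
  · rw [he, mul_comm]
  · rw [hP.coeff_eq_zero he, map_zero, zero_mul, mul_zero]

theorem mem_of_scale_eq {q m : ℕ} {P Q : MvPolynomial σ R} (h : scale σ m P = scale σ m Q) :
    P - Q ∈ trI R σ q (m + 1) := by
  rw [mem_trI]
  intro e he
  refine Or.inr ?_
  by_contra hlt
  refine he (eq_zero_of_mul_scT (m := m) (d := e.degree) (by omega) ?_)
  rw [← coeff_scale, map_sub, h, sub_self, coeff_zero]

/-- Scale a polynomial in one variable. -/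
noncomputable def scaleP (m : ℕ) (f : Polynomial R) : Polynomial (ScR R m) :=
  (f.map (algebraMap R (ScR R m))).comp (Polynomial.C (scT R m) * Polynomial.X)

theorem scale_aeval (m : ℕ) (v : MvPolynomial σ R) (w : MvPolynomial σ (ScR R m))
    (hv : scale σ m v = C (scT R m) * w) (f : Polynomial R) :
    scale σ m (Polynomial.aeval v f) = Polynomial.aeval w (scaleP m f) := by
  rw [← Polynomial.aeval_algHom_apply, hv, scaleP, Polynomial.aeval_comp, Polynomial.aeval_map_algebraMap,
    map_mul, Polynomial.aeval_C, Polynomial.aeval_X]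
  rfl

end Scale

section Step

variable (p : ℕ) [Fact p.Prime] [CharP R p]

/-- The data of a normalised symmetric cocycle modulo `q`-th powers. -/
structure IsTCoc (q : ℕ) (h : MvPolynomial (Fin 2) R) : Prop where
  symm : (aeval ![X 1, X 0] h : MvPolynomial (Fin 2) R) - h ∈ qI R (Fin 2) q
  coc : (aeval ![X 1, X 2] h : MvPolynomial (Fin 3) R) * aeval ![X 0, X 1 + X 2] h -
      aeval ![X 0 + X 1, X 2] h * aeval ![X 0, X 1] h ∈ qI R (Fin 3) q

omit [Fact p.Prime] [CharP R p] in
theorem isHomogeneous_cob (c : R) (d : ℕ) : (cob (Polynomial.monomial d c)).IsHomogeneous d := by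
  have h : ∀ v : MvPolynomial (Fin 2) R, v.IsHomogeneous 1 →
      (Polynomial.aeval v (Polynomial.monomial d c)).IsHomogeneous d := fun v hv => by
    rw [Polynomial.aeval_monomial]
    have := (isHomogeneous_C (Fin 2) c).mul (hv.pow d)
    rwa [one_mul, zero_add] at this
  exact ((h _ ((isHomogeneous_X R _).add (isHomogeneous_X R _))).sub (h _ (isHomogeneous_X R _))).sub
    (h _ (isHomogeneous_X R _))

omit [Fact p.Prime] [CharP R p] in
theorem cob_add (F G : Polynomial R) : cob (F + G) = cob F + cob G := by simp only [cob, map_add]; ring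

omit [Fact p.Prime] [CharP R p] in
theorem homogeneousComponent_cob (m : ℕ) (G : Polynomial R) :
    homogeneousComponent m (cob G) = cob (Polynomial.monomial m (G.coeff m)) := by
  induction G using Polynomial.induction_on' with
  | add F G hF hG => rw [cob_add, map_add, hF, hG, Polynomial.coeff_add, map_add, cob_add]
  | monomial d c =>
    rw [homogeneousComponent_of_mem (isHomogeneous_cob c d), Polynomial.coeff_monomial]
    by_cases h : m = d
    · subst h; simp
    · rw [if_neg h, if_neg (Ne.symm h)]; simp [cob]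

omit [CharP R p] in
theorem isHomogeneous_twS (k : ℕ) : (twS p k : MvPolynomial (Fin 2) R).IsHomogeneous (p ^ (k + 1)) := by
  intro e he
  by_contra h
  rw [eq_pr e] at he
  refine he (coeff_twS_eq_zero p k fun h' => h ?_)
  rw [← h', Finsupp.weight_apply, Finsupp.sum_fintype _ _ (fun i => by simp), Fin.sum_univ_two]
  simp

omit [CharP R p] in
theorem map_twS {S : Type u} [CommRing S] (φ : R →+* S) (k : ℕ) :
    MvPolynomial.map φ (twS p k : MvPolynomial (Fin 2) R) = twS p k := by
  rw [twS, map_mvAeval φ _ ![X 0 ^ p ^ k, X 1 ^ p ^ k] (fun i => by fin_cases i <;> simp), map_univS]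
  rfl

/-- A homogeneous symmetric cocycle in one degree. -/
theorem exists_form {F : MvPolynomial (Fin 2) R} (hF : IsCoc F) {m : ℕ} (hm : F.IsHomogeneous m) :
    ∃ (g r : R) (k : ℕ), F = cob (Polynomial.monomial m g) + C r * twS p k ∧ (r = 0 ∨ p ^ (k + 1) = m) := by
  obtain ⟨G, N, r, hGr, -, -⟩ := hF.exists_decomp p ⊤ fun _ => Submodule.mem_top
  have h1 := congrArg (homogeneousComponent m) hGr
  rw [homogeneousComponent_of_mem hm, if_pos rfl, map_add, homogeneousComponent_cob, map_sum] at h1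
  have h2 : ∀ i, homogeneousComponent m (C (r i) * twS p i : MvPolynomial (Fin 2) R) =
      if m = p ^ (i + 1) then C (r i) * twS p i else 0 := fun i => by
    rw [homogeneousComponent_of_mem ((isHomogeneous_twS p i).C_mul (r i))]
  simp only [h2] at h1
  by_cases hk : ∃ k, m = p ^ (k + 1)
  · obtain ⟨k, rfl⟩ := hk
    have hinj : ∀ i, p ^ (k + 1) = p ^ (i + 1) ↔ k = i := fun i => by
      rw [(Nat.pow_right_injective (Fact.out : p.Prime).two_le).eq_iff, Nat.succ_inj]
    simp only [hinj] at h1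
    rw [Finset.sum_ite_eq] at h1
    refine ⟨G.coeff (p ^ (k + 1)), if k ∈ Finset.range N then r k else 0, k, h1.trans ?_, Or.inr rfl⟩
    split_ifs <;> simp
  · refine ⟨G.coeff m, 0, 0, h1.trans ?_, Or.inl rfl⟩
    rw [Finset.sum_eq_zero fun i _ => if_neg fun h => hk ⟨i, h⟩]
    simp

/-- The lowest part of a cocycle is an additive cocycle. -/
theorem exists_lead {n m : ℕ} (hm : 1 ≤ m) {h : MvPolynomial (Fin 2) R} (hh : IsTCoc (p ^ n) h)
    (h1 : h - 1 ∈ trI R (Fin 2) (p ^ n) m) :
    ∃ F : MvPolynomial (Fin 2) R, F.IsHomogeneous m ∧ IsCoc F ∧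
      h - (1 + F) ∈ trI R (Fin 2) (p ^ n) (m + 1) := by
  classical
  let q := p ^ n
  let F : MvPolynomial (Fin 2) R := ∑ e ∈ (h - 1).support with (e.degree = m ∧ ∀ i, e i < q),
    monomial e (coeff e (h - 1))
  have hFc : ∀ e, coeff e F = if e.degree = m ∧ ∀ i, e i < q then coeff e (h - 1) else 0 := fun e => by
    simp only [F, coeff_sum, coeff_monomial, Finset.sum_ite_eq', Finset.mem_filter, mem_support_iff]
    by_cases hc : coeff e (h - 1) = 0
    · simp [hc]
    · simp only [ne_eq, hc, not_false_eq_true, true_and]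
  have hF : F.IsHomogeneous m := by
    intro e he
    rw [hFc] at he
    split_ifs at he with hd
    · rw [← hd.1, Finsupp.degree_eq_weight_one]; rfl
    · exact absurd rfl he
  have hrem : h - (1 + F) ∈ trI R (Fin 2) q (m + 1) := by
    rw [mem_trI]
    intro e he
    rw [← sub_sub, coeff_sub, hFc] at he
    by_contra hlow
    simp only [low, Set.mem_setOf_eq, not_or, not_exists, not_le] at hlow
    split_ifs at he with hd
    · exact he (sub_self _)
    · rw [sub_zero] at he
      rcases mem_trI.1 h1 e he with ⟨i, hi⟩ | hle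
      · exact absurd (hlow.1 i) (not_lt.2 hi)
      · exact hd ⟨by omega, hlow.1⟩
  have hFq : ∀ i j, q ≤ i ∨ q ≤ j → coeff (pr i j) F = 0 := fun i j hij => by
    rw [hFc, if_neg]
    rintro ⟨-, hlt⟩
    have h0 := hlt 0
    have h1 := hlt 1
    simp [pr] at h0 h1
    omega
  have hFdeg : ∀ i j, i + j ≠ m → coeff (pr i j) F = 0 := fun i j hij => by
    refine hF.coeff_eq_zero fun h => hij ?_
    rw [← h]; simp [pr, map_add]
  let π3 := Ideal.Quotient.mk (trI R (Fin 3) q (m + 1))
  let π2 := Ideal.Quotient.mk (trI R (Fin 2) q (m + 1))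
  have hpq : ∀ {σ : Type} (a b : σ), (X a + X b : MvPolynomial σ R) ^ q ∈ qI R σ q := fun {σ} a b => by
    rw [add_pow_char_pow]
    exact add_mem (Ideal.subset_span ⟨a, rfl⟩) (Ideal.subset_span ⟨b, rfl⟩)
  have happ : ∀ (v : Fin 2 → MvPolynomial (Fin 3) R), (∀ i, (v i).IsHomogeneous 1) →
      (∀ i, v i ^ q ∈ qI R (Fin 3) q) → π3 (aeval v h) = 1 + π3 (aeval v F) := fun v hv hvq => by
    rw [← map_one π3, ← map_add, Ideal.Quotient.eq, ← map_one (aeval v : MvPolynomial (Fin 2) R →ₐ[R] _),
      ← map_add, ← map_sub]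
    exact aeval_mem_trI v hv hvq hrem
  have hprod : ∀ (v w : Fin 2 → MvPolynomial (Fin 3) R), (∀ i, (v i).IsHomogeneous 1) →
      (∀ i, (w i).IsHomogeneous 1) → π3 (aeval v F) * π3 (aeval w F) = 0 := fun v w hv hw => by
    rw [← map_mul, Ideal.Quotient.eq_zero_iff_mem]
    have := (hF.aeval v hv).mul (hF.aeval w hw)
    rw [one_mul] at this
    exact trI_anti (by omega) (mem_trI_of_isHomogeneous this)
  have hX : ∀ i : Fin 3, (X i : MvPolynomial (Fin 3) R).IsHomogeneous 1 := fun i => isHomogeneous_X R i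
  have hXq : ∀ i : Fin 3, (X i : MvPolynomial (Fin 3) R) ^ q ∈ qI R (Fin 3) q := fun i => Ideal.subset_span ⟨i, rfl⟩
  have hv1 : ∀ i, ((![X 1, X 2] : Fin 2 → MvPolynomial (Fin 3) R) i).IsHomogeneous 1 := by
    intro i; fin_cases i <;> exact hX _
  have hv2 : ∀ i, ((![X 0, X 1 + X 2] : Fin 2 → MvPolynomial (Fin 3) R) i).IsHomogeneous 1 := by
    intro i; fin_cases i; exacts [hX _, (hX _).add (hX _)]
  have hv3 : ∀ i, ((![X 0 + X 1, X 2] : Fin 2 → MvPolynomial (Fin 3) R) i).IsHomogeneous 1 := by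
    intro i; fin_cases i; exacts [(hX _).add (hX _), hX _]
  have hv4 : ∀ i, ((![X 0, X 1] : Fin 2 → MvPolynomial (Fin 3) R) i).IsHomogeneous 1 := by
    intro i; fin_cases i <;> exact hX _
  have hcoc : coc F ∈ trI R (Fin 3) q (m + 1) := by
    have h2 : π3 (aeval ![X 1, X 2] h) * π3 (aeval ![X 0, X 1 + X 2] h) =
        π3 (aeval ![X 0 + X 1, X 2] h) * π3 (aeval ![X 0, X 1] h) := by
      rw [← map_mul, ← map_mul, Ideal.Quotient.eq]
      exact qI_le_trI _ _ hh.coc
    rw [happ _ hv1 (by intro i; fin_cases i <;> exact hXq _),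
      happ _ hv2 (by intro i; fin_cases i; exacts [hXq _, hpq _ _]),
      happ _ hv3 (by intro i; fin_cases i; exacts [hpq _ _, hXq _]),
      happ _ hv4 (by intro i; fin_cases i <;> exact hXq _)] at h2
    rw [← Ideal.Quotient.eq_zero_iff_mem, coc_apply, map_sub, map_sub, map_add]
    linear_combination h2 - hprod _ _ hv1 hv2 + hprod _ _ hv3 hv4
  refine ⟨F, hF, ⟨?_, ?_⟩, hrem⟩
  · -- symmetry
    have h2 : π2 (aeval ![X 1, X 0] F) = π2 F := by
      rw [Ideal.Quotient.eq]
      have hs := aeval_mem_trI (![X 1, X 0] : Fin 2 → MvPolynomial (Fin 2) R)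
        (by intro i; fin_cases i <;> exact isHomogeneous_X R _)
        (by intro i; fin_cases i <;> exact Ideal.subset_span ⟨_, rfl⟩) hrem
      rw [map_sub, map_add, map_one] at hs
      have h3 := sub_mem (add_mem (qI_le_trI q (m + 1) hh.symm) hrem) hs
      convert h3 using 1
      ring
    rw [Ideal.Quotient.eq, mem_trI] at h2
    have hsw : ∀ i j, coeff (pr i j) (aeval ![X 1, X 0] F : MvPolynomial (Fin 2) R) = coeff (pr j i) F := by
      intro i j
      have hfun : (aeval ![X 1, X 0] F : MvPolynomial (Fin 2) R) = rename ![1, 0] F := by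
        exact AlgHom.congr_fun (algHom_ext fun s => by fin_cases s <;> simp) F
      rw [hfun, show pr i j = Finsupp.mapDomain ![1, 0] (pr j i) by
        simp [pr, Finsupp.mapDomain_add, Finsupp.mapDomain_single, add_comm],
        coeff_rename_mapDomain _ (by decide)]
    ext e
    rw [eq_pr e, hsw]
    by_contra hne
    have hne' : coeff (pr (e 0) (e 1)) (aeval ![X 1, X 0] F - F : MvPolynomial (Fin 2) R) ≠ 0 := by
      rw [coeff_sub, hsw]; exact sub_ne_zero.2 hne
    rcases h2 _ hne' with ⟨i, hi⟩ | hd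
    · fin_cases i <;> simp [pr] at hi
      · exact hne (by rw [hFq _ _ (Or.inr hi), hFq _ _ (Or.inl hi)])
      · exact hne (by rw [hFq _ _ (Or.inl hi), hFq _ _ (Or.inr hi)])
    · simp [pr, map_add] at hd
      exact hne (by rw [hFdeg _ _ (by omega), hFdeg _ _ (by omega)])
  · ext e
    rw [coeff_zero]
    by_contra hne
    have he : e = tr (e 0) (e 1) (e 2) := Finsupp.ext fun s => by fin_cases s <;> simp [tr]
    have hz : ∀ a b c, (q ≤ a ∨ q ≤ b ∨ q ≤ c ∨ a + b + c ≠ m) → coeff (tr a b c) (coc F) = 0 := by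
      intro a b c h'
      rw [coc_apply, coeff_sub, coeff_sub, coeff_add, coeff_left, coeff_right, coeff_last, coeff_first]
      have e1 : coeff (pr a (b + c)) F = 0 := by
        by_cases hd : a + (b + c) = m
        · exact hFq _ _ (by omega)
        · exact hFdeg _ _ hd
      have e2 : coeff (pr (a + b) c) F = 0 := by
        by_cases hd : a + b + c = m
        · exact hFq _ _ (by omega)
        · exact hFdeg _ _ hd
      have e3 : (if a = 0 then coeff (pr b c) F else 0) = 0 := by
        split_ifs with ha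
        · rw [← e2, ha, zero_add]
        · rfl
      have e4 : (if c = 0 then coeff (pr a b) F else 0) = 0 := by
        split_ifs with hc
        · rw [← e1, hc, add_zero]
        · rfl
      rw [e1, e2, e3, e4]
      simp
    rcases mem_trI.1 hcoc e hne with ⟨i, hi⟩ | hd
    · rw [he] at hne
      fin_cases i
      · exact hne (hz _ _ _ (Or.inl hi))
      · exact hne (hz _ _ _ (Or.inr (Or.inl hi)))
      · exact hne (hz _ _ _ (Or.inr (Or.inr (Or.inl hi))))
    · rw [Finsupp.degree_eq_sum, Fin.sum_univ_three] at hd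
      rw [he] at hne
      exact hne (hz _ _ _ (Or.inr (Or.inr (Or.inr (by omega)))))

/-- The splitting of a homogeneous part. -/
theorem exists_sol_step {n m : ℕ} (hm : 1 ≤ m) (g a : R) (k : ℕ) (hk : a = 0 ∨ p ^ (k + 1) = m) :
    let f : Polynomial R := (1 + Polynomial.monomial m g) * expp p a k
    (Polynomial.aeval (X 0 + X 1 : MvPolynomial (Fin 2) R) f -
      Polynomial.aeval (X 0 : MvPolynomial (Fin 2) R) f * Polynomial.aeval (X 1 : MvPolynomial (Fin 2) R) f *
        (1 + (cob (Polynomial.monomial m g) + C (a ^ p) * twS p k))) ∈ trI R (Fin 2) (p ^ n) (m + 1) ∧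
      f.coeff 0 = 1 := by
  intro f
  have hp : p.Prime := Fact.out
  refine ⟨mem_of_scale_eq (m := m) ?_, ?_⟩
  · let φ := algebraMap R (ScR R m)
    let t := scT R m
    haveI : CharP (ScR R m) p := charP_of_injective_ringHom (f := φ) ((injective_iff_map_eq_zero φ).2 fun c hc =>
      eq_zero_of_mul_scT (m := m) (d := 0) (Nat.zero_le m) (by rw [pow_zero, mul_one]; exact hc)) p
    let a' := φ a * t ^ p ^ k
    have ha' : a' ^ (p + 1) = 0 := by
      rcases hk with rfl | hk
      · simp [a']
      · rw [mul_pow, ← pow_mul, scT_pow, mul_zero]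
        rw [← hk, pow_succ, Nat.mul_add, Nat.mul_one]
        have := pow_pos hp.pos k
        omega
    let J : Ideal (ScR R m) := Ideal.span {t ^ m}
    have hJ : J * J = ⊥ := by
      rw [Ideal.span_singleton_mul_span_singleton, Ideal.span_singleton_eq_bot, ← pow_add, scT_pow]
      omega
    let G : Polynomial (ScR R m) := Polynomial.monomial m (φ g * t ^ m)
    have hG : ∀ i, G.coeff i ∈ J := fun i => by
      rw [Polynomial.coeff_monomial]
      split_ifs
      · exact Ideal.mem_span_singleton.2 (dvd_mul_left _ _)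
      · exact zero_mem _
    have hsol : Sol ((1 + G) * expp p a' k) ((1 + cob G) * (1 + C (a' ^ p) * twS p k)) :=
      (sol_linear hJ hG).mul (sol_expp p ha' k)
    have hf : scaleP m f = (1 + G) * expp p a' k := by
      simp only [scaleP, f, Polynomial.map_mul, Polynomial.mul_comp, Polynomial.map_add, Polynomial.map_one,
        Polynomial.add_comp, Polynomial.one_comp, Polynomial.map_monomial, expp_map, Polynomial.monomial_comp, G]
      congr 1
      · rw [mul_pow, ← Polynomial.C_pow, ← mul_assoc, ← Polynomial.C_mul, Polynomial.C_mul_X_pow_eq_monomial]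
      · simp only [expp, Polynomial.sum_comp, Polynomial.mul_comp, Polynomial.C_comp, Polynomial.pow_comp,
          Polynomial.X_comp]
        refine Finset.sum_congr rfl fun j _ => ?_
        rw [mul_pow, ← Polynomial.C_pow, ← mul_assoc, ← Polynomial.C_mul, mul_pow, ← pow_mul, mul_comm j (p ^ k),
          mul_assoc]
    have hF : (cob (Polynomial.monomial m g) + C (a ^ p) * twS p k : MvPolynomial (Fin 2) R).IsHomogeneous m := by
      refine (isHomogeneous_cob g m).add ?_
      rcases hk with rfl | hk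
      · rw [zero_pow hp.ne_zero, map_zero, zero_mul]; exact isHomogeneous_zero _ _ _
      · rw [← hk]; exact (isHomogeneous_twS p k).C_mul _
    have hs : ∀ i : Fin 2, scale (R := R) (Fin 2) m (X i) = C t * X i := fun i => aeval_X _ _
    generalize f = f' at hf ⊢
    rw [map_mul, map_mul, scale_aeval m _ (X 0 + X 1) (by rw [map_add, hs, hs, mul_add]) f',
      scale_aeval m _ (X 0) (hs 0) f', scale_aeval m _ (X 1) (hs 1) f', map_add, map_one,
      scale_eq_of_homogeneous hF, hf]
    have h := hsol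
    unfold Sol at h
    rw [h]
    congr 1
    have hc : cob G = C (t ^ m) * MvPolynomial.map φ (cob (Polynomial.monomial m g)) := by
      simp only [cob, map_sub, map_aeval', map_add, map_X, Polynomial.map_monomial, G, Polynomial.aeval_monomial,
        MvPolynomial.algebraMap_apply, Algebra.algebraMap_self, RingHom.id_apply, map_mul, map_pow, map_C]
      ring
    have hr : a' ^ p * 1 = φ (a ^ p) * t ^ (p ^ (k + 1)) := by
      rw [mul_one, mul_pow, map_pow, ← pow_mul, ← pow_succ]
    rw [hc, map_add, map_mul, map_C, map_twS]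
    have h0 : C (t ^ m) * MvPolynomial.map φ (cob (Polynomial.monomial m g)) * (C (a' ^ p) * twS p k) = 0 := by
      rcases hk with rfl | hk
      · simp [a', zero_pow hp.ne_zero]
      · rw [mul_mul_mul_comm, ← map_mul, ← mul_one (a' ^ p), hr, hk, show t ^ m * (φ (a ^ p) * t ^ m) =
          φ (a ^ p) * t ^ (m + m) by ring, scT_pow m (show m + 1 ≤ m + m by omega)]
        simp
    have h1 : C (a' ^ p) * twS p k = C (t ^ m) * (C (φ (a ^ p)) * (twS p k : MvPolynomial (Fin 2) (ScR R m))) := by
      rcases hk with rfl | hk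
      · simp [a', zero_pow hp.ne_zero]
      · rw [← mul_assoc, ← map_mul, ← mul_one (a' ^ p), hr, hk, mul_comm (t ^ m)]
    linear_combination h0 + h1
  · rw [Polynomial.mul_coeff_zero, Polynomial.coeff_add, Polynomial.coeff_one_zero, Polynomial.coeff_monomial,
      if_neg (by omega), add_zero, one_mul]
    simp only [expp, Polynomial.finsetSum_coeff, Polynomial.coeff_C_mul_X_pow]
    rw [Finset.sum_eq_single 0]
    · simp
    · exact fun j _ hj => if_neg (mul_ne_zero hj (pow_ne_zero _ hp.ne_zero)).symm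
    · intro hh0; exact absurd (Finset.mem_range.2 hp.pos) hh0

/-- An inverse modulo a power of the variable. -/
theorem exists_inv_mod {f : Polynomial R} (hf : f.coeff 0 = 1) (q : ℕ) :
    ∃ fi : Polynomial R, (f * fi - 1) ∈ Ideal.span {(Polynomial.X : Polynomial R) ^ q} := by
  refine ⟨∑ i ∈ Finset.range q, (1 - f) ^ i, ?_⟩
  have h := mul_neg_geom_sum (1 - f) q
  rw [sub_sub_cancel] at h
  rw [h, show (1 : Polynomial R) - (1 - f) ^ q - 1 = -(1 - f) ^ q by ring, neg_mem_iff, Ideal.mem_span_singleton]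
  exact pow_dvd_pow_of_dvd (Polynomial.X_dvd_iff.2 (by simp [hf])) q

omit [CharP R p] [Fact p.Prime] in
theorem aeval_mem_of_mem_span {q : ℕ} (v : MvPolynomial σ R) (hv : v ^ q ∈ qI R σ q) {P : Polynomial R}
    (hP : P ∈ Ideal.span {(Polynomial.X : Polynomial R) ^ q}) : Polynomial.aeval v P ∈ qI R σ q := by
  obtain ⟨Q, rfl⟩ := Ideal.mem_span_singleton.1 hP
  rw [map_mul, map_pow, Polynomial.aeval_X]
  exact Ideal.mul_mem_right _ _ hv

theorem linear_pow_mem {n : ℕ} (a b : σ) :
    (X a + X b : MvPolynomial σ R) ^ p ^ n ∈ qI R σ (p ^ n) := by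
  rw [add_pow_char_pow]
  exact add_mem (Ideal.subset_span ⟨a, rfl⟩) (Ideal.subset_span ⟨b, rfl⟩)

/-- Multiply a cocycle by the coboundary of a polynomial unit. -/
theorem IsTCoc.twist {n : ℕ} {h : MvPolynomial (Fin 2) R} (hh : IsTCoc (p ^ n) h) {f fi : Polynomial R}
    (hfi : f * fi - 1 ∈ Ideal.span {(Polynomial.X : Polynomial R) ^ p ^ n}) :
    IsTCoc (p ^ n) (h * (Polynomial.aeval (X 0 : MvPolynomial (Fin 2) R) f * Polynomial.aeval (X 1 : MvPolynomial (Fin 2) R) f *
      Polynomial.aeval (X 0 + X 1 : MvPolynomial (Fin 2) R) fi)) := by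
  refine ⟨?_, ?_⟩
  · simp only [map_mul, ← Polynomial.aeval_algHom_apply, map_add, aeval_X, Matrix.cons_val_zero, Matrix.cons_val_one,
      add_comm (X 1 : MvPolynomial (Fin 2) R) (X 0)]
    have h1 := Ideal.mul_mem_right (Polynomial.aeval (X 0 : MvPolynomial (Fin 2) R) f *
      Polynomial.aeval (X 1 : MvPolynomial (Fin 2) R) f * Polynomial.aeval (X 0 + X 1 : MvPolynomial (Fin 2) R) fi) _ hh.symm
    convert h1 using 1
    ring
  · simp only [map_mul, ← Polynomial.aeval_algHom_apply, map_add, aeval_X, Matrix.cons_val_zero, Matrix.cons_val_one]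
    let π := Ideal.Quotient.mk (qI R (Fin 3) (p ^ n))
    have hc : π (aeval ![X 1, X 2] h) * π (aeval ![X 0, X 1 + X 2] h) =
        π (aeval ![X 0 + X 1, X 2] h) * π (aeval ![X 0, X 1] h) := by
      rw [← map_mul, ← map_mul, Ideal.Quotient.eq]
      exact hh.coc
    have hu : ∀ v : MvPolynomial (Fin 3) R, v ^ p ^ n ∈ qI R (Fin 3) (p ^ n) →
        π (Polynomial.aeval v f) * π (Polynomial.aeval v fi) = 1 := fun v hv => by
      rw [← map_mul, ← map_one π, Ideal.Quotient.eq, ← map_mul, ← map_one (Polynomial.aeval (R := R) v), ← map_sub]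
      exact aeval_mem_of_mem_span v hv hfi
    rw [← Ideal.Quotient.eq, map_mul, map_mul, map_mul, map_mul, map_mul, map_mul, map_mul, map_mul, map_mul, map_mul,
      map_mul, map_mul, map_mul, map_mul, add_assoc (X 0 : MvPolynomial (Fin 3) R) (X 1) (X 2)]
    linear_combination (π (Polynomial.aeval (X 0) f) * π (Polynomial.aeval (X 1) f) * π (Polynomial.aeval (X 2) f) *
        π (Polynomial.aeval (X 0 + (X 1 + X 2)) fi) * π (Polynomial.aeval (X 1 + X 2) f) *
        π (Polynomial.aeval (X 1 + X 2) fi)) * hc +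
      (π (aeval ![X 0 + X 1, X 2] h) * π (aeval ![X 0, X 1] h) * π (Polynomial.aeval (X 0) f) *
        π (Polynomial.aeval (X 1) f) * π (Polynomial.aeval (X 2) f) * π (Polynomial.aeval (X 0 + (X 1 + X 2)) fi)) *
        (hu (X 1 + X 2) (linear_pow_mem p 1 2) - hu (X 0 + X 1) (linear_pow_mem p 0 1))

/-- A normalised cocycle modulo `q`-th powers is a coboundary. -/
theorem exists_trunc_splitting (hR : Function.Surjective (frobenius R p)) {n : ℕ} {h : MvPolynomial (Fin 2) R}
    (h0 : constantCoeff h = 1) (hh : IsTCoc (p ^ n) h) :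
    ∃ f : Polynomial R, f.coeff 0 = 1 ∧ Polynomial.aeval (X 0 + X 1 : MvPolynomial (Fin 2) R) f -
      Polynomial.aeval (X 0 : MvPolynomial (Fin 2) R) f * Polynomial.aeval (X 1 : MvPolynomial (Fin 2) R) f * h ∈
        qI R (Fin 2) (p ^ n) := by
  suffices ∀ (d m : ℕ), 1 ≤ m → 2 * p ^ n ≤ m + d → ∀ k : MvPolynomial (Fin 2) R, IsTCoc (p ^ n) k →
      k - 1 ∈ trI R (Fin 2) (p ^ n) m → ∃ f : Polynomial R, f.coeff 0 = 1 ∧
        Polynomial.aeval (X 0 + X 1 : MvPolynomial (Fin 2) R) f -
          Polynomial.aeval (X 0 : MvPolynomial (Fin 2) R) f * Polynomial.aeval (X 1 : MvPolynomial (Fin 2) R) f * k ∈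
            qI R (Fin 2) (p ^ n) by
    refine this (2 * p ^ n) 1 le_rfl (by omega) h hh (mem_trI.2 fun e he => Or.inr ?_)
    by_contra hlt
    have : e = 0 := (Finsupp.degree_eq_zero_iff e).1 (by omega)
    subst this
    rw [← constantCoeff_eq, map_sub, h0, map_one, sub_self] at he
    exact he rfl
  intro d
  induction d with
  | zero =>
    intro m _ hle k _ hk
    refine ⟨1, by simp, ?_⟩
    simp only [map_one, one_mul]
    rw [← neg_mem_iff, neg_sub]
    exact trI_le_qI _ (trI_anti (by simpa using hle) hk)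
  | succ d ih =>
    intro m hm hle k hk hk1
    obtain ⟨F, hFh, hFc, hrem⟩ := exists_lead p hm hk hk1
    obtain ⟨g, r, j, hFeq, hr⟩ := exists_form p hFc hFh
    obtain ⟨a, ha, hak⟩ : ∃ a : R, a ^ p = r ∧ (a = 0 ∨ p ^ (j + 1) = m) := by
      rcases hr with rfl | hr
      · exact ⟨0, zero_pow (Fact.out : p.Prime).ne_zero, Or.inl rfl⟩
      · obtain ⟨a, ha⟩ := hR r
        exact ⟨a, (frobenius_def p a).symm.trans ha, Or.inr hr⟩
    obtain ⟨hstep, hf0⟩ := exists_sol_step p (n := n) hm g a j hak
    rw [ha, ← hFeq] at hstep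
    generalize (1 + Polynomial.monomial m g) * expp p a j = f at hstep hf0
    obtain ⟨fi, hfi⟩ := exists_inv_mod hf0 (p ^ n)
    have hinv : Polynomial.aeval (X 0 + X 1 : MvPolynomial (Fin 2) R) f *
        Polynomial.aeval (X 0 + X 1 : MvPolynomial (Fin 2) R) fi - 1 ∈ qI R (Fin 2) (p ^ n) := by
      rw [← map_mul, ← map_one (Polynomial.aeval (R := R) (X 0 + X 1 : MvPolynomial (Fin 2) R)), ← map_sub]
      exact aeval_mem_of_mem_span _ (linear_pow_mem p 0 1) hfi
    have hk' : k * (Polynomial.aeval (X 0 : MvPolynomial (Fin 2) R) f * Polynomial.aeval (X 1 : MvPolynomial (Fin 2) R) f *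
        Polynomial.aeval (X 0 + X 1 : MvPolynomial (Fin 2) R) fi) - 1 ∈ trI R (Fin 2) (p ^ n) (m + 1) := by
      have h3 := add_mem (sub_mem (Ideal.mul_mem_right (Polynomial.aeval (X 0 : MvPolynomial (Fin 2) R) f *
          Polynomial.aeval (X 1 : MvPolynomial (Fin 2) R) f *
          Polynomial.aeval (X 0 + X 1 : MvPolynomial (Fin 2) R) fi) _ hrem)
        (Ideal.mul_mem_right (Polynomial.aeval (X 0 + X 1 : MvPolynomial (Fin 2) R) fi) _ hstep))
        (qI_le_trI _ (m + 1) hinv)
      convert h3 using 1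
      ring
    obtain ⟨f', hf'0, hf'⟩ := ih (m + 1) (by omega) (by omega) _ (hk.twist p hfi) hk'
    refine ⟨f * f', by rw [Polynomial.mul_coeff_zero, hf0, hf'0, one_mul], ?_⟩
    rw [map_mul, map_mul, map_mul]
    have h4 := sub_mem (Ideal.mul_mem_left _ (Polynomial.aeval (X 0 + X 1 : MvPolynomial (Fin 2) R) f) hf')
      (Ideal.mul_mem_left _ (-(Polynomial.aeval (X 0 : MvPolynomial (Fin 2) R) f' *
        Polynomial.aeval (X 1 : MvPolynomial (Fin 2) R) f' * k * Polynomial.aeval (X 0 : MvPolynomial (Fin 2) R) f *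
        Polynomial.aeval (X 1 : MvPolynomial (Fin 2) R) f)) hinv)
    convert h4 using 1
    ring

end Step

end Groth.Agent.GaExt
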