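import Groth.Agent.GaExt.PerfectBase
import Groth.Agent.GaExt.Trunc
import Groth.Prelude.Def_AlphaPn
import Mathlib.AlgebraicGeometry.Group.Affine

/-!
# Points of the infinitesimal groups `α_{p^n}` and goodness of their coordinate rings
-/

set_option autoImplicit false
set_option backward.isDefEq.respectTransparency false
set_option linter.style.haveILetI false

universe u

open CategoryTheory Limits AlgebraicGeometry Opposite MonoidalCategory CartesianMonoidalCategory
open scoped MonObj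

namespace Groth.Agent.GaExt

open Adeq2Lib Adeq2Lib.AffVan

variable (p : ℕ) [Fact p.Prime] (n : ℕ) (R : Type u) [CommRing R] [CharP R p]

/-- The group scheme `α_{p^n}`. -/
noncomputable abbrev αP : Over (Spec (CommRingCat.of R)) :=
  (Spec (CommRingCat.of (AlphaPn.A p n R))).asOver (Spec (CommRingCat.of R))

/-- The functions on `α_{p^n}`. -/
noncomputable def αToFn : AlphaPn.A p n R →+* Γ((αP p n R).left, ⊤) :=
  (Scheme.ΓSpecIso (CommRingCat.of (AlphaPn.A p n R))).inv.hom

/-- The coordinate of a point. -/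
noncomputable def αGv {T : Over (Spec (CommRingCat.of R))} (a : T ⟶ αP p n R) : Γ(T.left, ⊤) :=
  a.left.appTop.hom (αToFn p n R (AlphaPn.x p n R))

variable {p n R}

theorem αGv_comp {T T' : Over (Spec (CommRingCat.of R))} (m : T' ⟶ T) (a : T ⟶ αP p n R) :
    αGv p n R (m ≫ a) = m.left.appTop.hom (αGv p n R a) := by
  show ((m.left ≫ a.left).appTop.hom _) = _
  rw [Scheme.Hom.comp_appTop]
  rfl

theorem αGv_pow {T : Over (Spec (CommRingCat.of R))} (a : T ⟶ αP p n R) : αGv p n R a ^ p ^ n = 0 := by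
  rw [αGv, ← map_pow, ← map_pow, AlphaPn.x_pow, map_zero, map_zero]

theorem αGv_ext {T : Over (Spec (CommRingCat.of R))} {a b : T ⟶ αP p n R} (h : αGv p n R a = αGv p n R b) :
    a = b := by
  apply Over.OverMorphism.ext
  haveI : IsAffine (αP p n R).left := inferInstanceAs (IsAffine (Spec (CommRingCat.of (AlphaPn.A p n R))))
  apply ext_of_isAffine
  rw [← cancel_epi (Scheme.ΓSpecIso (CommRingCat.of (AlphaPn.A p n R))).inv]
  refine CommRingCat.hom_ext (RingHom.ext fun r => ?_)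
  obtain ⟨f, rfl⟩ := AlphaPn.mk_surjective p n R r
  let φ : ∀ _ : T ⟶ αP p n R, Polynomial R →+* Γ(T.left, ⊤) := fun c =>
    (c.left.appTop.hom.comp (Scheme.ΓSpecIso (CommRingCat.of (AlphaPn.A p n R))).inv.hom).comp
      (AlphaPn.mk p n R).toRingHom
  refine RingHom.congr_fun (f := φ a) (g := φ b) (Polynomial.ringHom_ext (fun s => ?_) ?_) f
  · have hC : ∀ c : T ⟶ αP p n R, φ c (Polynomial.C s) = stFn R T s := fun c => by
      rw [← stFn_res c]
      show c.left.appTop.hom _ = c.left.appTop.hom ((Spec.map (CommRingCat.ofHom _)).appTop.hom _)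
      congr 1
      refine Eq.trans ?_ (congrArg (fun k => k.hom s) (Scheme.ΓSpecIso_inv_naturality
        (CommRingCat.ofHom (algebraMap R (AlphaPn.A p n R)))))
      exact congrArg _ ((AlphaPn.mk p n R).commutes s)
    rw [hC, hC]
  · show _ = _
    simp only [φ, RingHom.comp_apply]
    exact h

variable {B : Type u} [CommRing B] [Algebra R B]

/-- The point attached to a nilpotent element. -/
noncomputable def αPt (b : B) (hb : b ^ p ^ n = 0) : Ch (cR R) B ⟶ αP p n R :=
  Over.homMk (Spec.map (CommRingCat.ofHom (AlphaPn.lift p n R b hb).toRingHom)) (by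
    show Spec.map _ ≫ Spec.map (CommRingCat.ofHom (algebraMap R (AlphaPn.A p n R))) =
      Spec.map (CommRingCat.ofHom (algebraMap R B)) ≫ 𝟙 _
    rw [Category.comp_id, ← Spec.map_comp, ← CommRingCat.ofHom_comp]
    exact congrArg (fun k => Spec.map (CommRingCat.ofHom k)) (AlphaPn.lift p n R b hb).comp_algebraMap)

theorem αPt_appTop (b : B) (hb : b ^ p ^ n = 0) (r : AlphaPn.A p n R) :
    (αPt (R := R) b hb).left.appTop.hom (αToFn p n R r) =
      toFn R B (AlphaPn.lift p n R b hb r) :=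
  (congrArg (fun k => k.hom r) (Scheme.ΓSpecIso_inv_naturality
    (CommRingCat.ofHom (AlphaPn.lift p n R b hb).toRingHom))).symm

theorem αGv_αPt (b : B) (hb : b ^ p ^ n = 0) : αGv p n R (αPt b hb) = toFn R B b := by
  rw [αGv, αPt_appTop, AlphaPn.lift_x]

theorem αPt_congr {b b' : B} (h : b = b') (hb : b ^ p ^ n = 0) (hb' : b' ^ p ^ n = 0) :
    αPt (R := R) b hb = αPt b' hb' := by subst h; rfl

theorem chMap_αPt {B' : Type u} [CommRing B'] [Algebra R B'] (f : B →ₐ[R] B') (b : B) (hb : b ^ p ^ n = 0)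
    (hb' : f b ^ p ^ n = 0) : chMap (cR R) f ≫ αPt b hb = αPt (f b) hb' := by
  apply αGv_ext
  rw [αGv_comp, αGv_αPt, αGv_αPt]
  exact toFn_res f b

theorem αPt_add (b b' : B) (hb : b ^ p ^ n = 0) (hb' : b' ^ p ^ n = 0) (h : (b + b') ^ p ^ n = 0) :
    αPt (R := R) b hb * αPt b' hb' = αPt (b + b') h := by
  let e : Ch (cR R) B ⟶ (Spec (CommRingCat.of B)).asOver (Spec (CommRingCat.of R)) := Over.homMk (𝟙 _) (by
    show 𝟙 _ ≫ Spec.map (CommRingCat.ofHom (algebraMap R B)) = Spec.map _ ≫ 𝟙 _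
    rw [Category.id_comp, Category.comp_id])
  have hpt : ∀ c hc, αPt (R := R) c hc = e ≫ (Spec.mapMulEquiv (R := R) (S := AlphaPn.A p n R) (T := B))
      ⟨AlphaPn.lift p n R c hc⟩ := fun c hc => Over.OverMorphism.ext (Category.id_comp _).symm
  rw [hpt, hpt, hpt, ← MonObj.comp_mul, ← map_mul]
  congr 2
  apply WithConv.ofConv_injective
  apply AlphaPn.algHom_ext
  rw [AlgHom.convMul_apply, AlphaPn.comul_x]
  simp

theorem αPt_zero (h : (0 : B) ^ p ^ n = 0) : αPt (R := R) (0 : B) h = 1 := by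
  have h1 := αPt_add (R := R) (0 : B) 0 h h (by rw [add_zero]; exact h)
  rw [αPt_congr (add_zero (0 : B)) _ h] at h1
  exact left_eq_mul.1 h1.symm

variable (p n R) in
/-- The universal pair of coordinates. -/
abbrev αA2 : Type u := MvPolynomial (Fin 2) R ⧸ qI R (Fin 2) (p ^ n)

/-- A coordinate. -/
noncomputable def αξ {σ : Type} (i : σ) : MvPolynomial σ R ⧸ qI R σ (p ^ n) :=
  Ideal.Quotient.mk _ (MvPolynomial.X i)

omit [Fact p.Prime] [CharP R p] in
theorem αξ_pow {σ : Type} (i : σ) : (αξ (p := p) (n := n) (R := R) i) ^ p ^ n = 0 := by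
  rw [αξ, ← map_pow, Ideal.Quotient.eq_zero_iff_mem]
  exact Ideal.subset_span ⟨i, rfl⟩

theorem exists_αPair {T : Over (Spec (CommRingCat.of R))} (a b : T ⟶ αP p n R) :
    ∃ m : T ⟶ Ch (cR R) (αA2 p n R),
      m ≫ αPt (αξ 0) (αξ_pow 0) = a ∧ m ≫ αPt (αξ 1) (αξ_pow 1) = b := by
  let φ₀ : MvPolynomial (Fin 2) R →+* Γ(T.left, ⊤) :=
    MvPolynomial.eval₂Hom (stFn R T) ![αGv p n R a, αGv p n R b]
  let φ : αA2 p n R →+* Γ(T.left, ⊤) := Ideal.Quotient.lift (qI R (Fin 2) (p ^ n)) φ₀ (fun r hr => by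
    refine (Ideal.span_le (I := RingHom.ker φ₀)).2 ?_ hr
    rintro _ ⟨i, rfl⟩
    show φ₀ _ = 0
    rw [map_pow, MvPolynomial.eval₂Hom_X']
    fin_cases i <;> exact αGv_pow _)
  obtain ⟨m, -, hm⟩ := exists_toCh (cR R) (αA2 p n R) (Over.homMk T.hom (Category.comp_id _)) φ
    (RingHom.ext fun r => MvPolynomial.eval₂_C _ _ r)
  have h : ∀ i, αGv p n R (m ≫ αPt (αξ i) (αξ_pow i)) = ![αGv p n R a, αGv p n R b] i := fun i => by
    rw [αGv_comp, αGv_αPt]
    exact (RingHom.congr_fun hm _).trans (MvPolynomial.eval₂Hom_X' _ _ i)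
  exact ⟨m, αGv_ext (h 0), αGv_ext (h 1)⟩

/-- The coordinate ring is good when Frobenius is surjective on the base. -/
theorem good_alphaPn (hF : Function.Surjective (frobenius R p)) : Good (AlphaPn.A p n R) p := by
  intro _ u _ _ _ _ _ _ l
  obtain ⟨f, hf⟩ := AlphaPn.mk_surjective p n R (u l)
  obtain ⟨d, hd⟩ := hF (f.coeff 0)
  refine ⟨algebraMap R _ d, ?_⟩
  obtain ⟨g, hg⟩ := Polynomial.X_dvd_sub_C (p := f)
  have hfx : algebraMap R (AlphaPn.A p n R) d ^ p - u l = -(AlphaPn.x p n R * AlphaPn.mk p n R g) := by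
    rw [← map_pow, ← frobenius_def, hd, ← hf, ← AlphaPn.mk_X, ← map_mul, ← hg, map_sub,
      show AlphaPn.mk p n R (Polynomial.C (f.coeff 0)) = algebraMap R _ (f.coeff 0) from
        (AlphaPn.mk p n R).commutes _]
    ring
  rw [hfx]
  exact ((Commute.all _ _).isNilpotent_mul_right ⟨p ^ n, AlphaPn.x_pow p n R⟩).neg

theorem αnsmul_sect {T : Over (Spec (CommRingCat.of R))}
    (v : (CGrpSh.pts Scheme.fppfPrecoverage (αP p n R)).obj.obj (op T)) : p • v = 0 := by
  -- multiplication by `p` on the universal point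
  have key : ∀ (B : Type u) [CommRing B] [Algebra R B] (b : B) (hb : b ^ p ^ n = 0) (k : ℕ)
      (hk : ((k : B) * b) ^ p ^ n = 0), (αPt (R := R) b hb) ^ k = αPt ((k : B) * b) hk := by
    intro B _ _ b hb k
    induction k with
    | zero =>
      intro hk
      rw [pow_zero, αPt_congr (show ((0 : ℕ) : B) * b = 0 by simp) hk (zero_pow (pow_ne_zero _
        (Fact.out : p.Prime).ne_zero)), αPt_zero]
    | succ k ih =>
      intro hk
      rw [pow_succ, ih (by rw [mul_pow, hb, mul_zero]), αPt_add _ _ _ _ (by rw [← add_one_mul, ← Nat.cast_succ]; exact hk)]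
      exact αPt_congr (by push_cast; ring) _ _
  obtain ⟨m, hm, -⟩ := exists_αPair v.down.toMul v.down.toMul
  have h1 : v.down.toMul ^ p = 1 := by
    rw [← hm, ← MonObj.comp_pow, key _ _ _ p (by rw [mul_pow, αξ_pow, mul_zero]),
      αPt_congr (b' := (0 : αA2 p n R)) (by rw [AlphaPn.natCast_eq_zero p R, zero_mul]) _
        (zero_pow (pow_ne_zero _ (Fact.out : p.Prime).ne_zero)), αPt_zero, MonObj.comp_one]
  apply ULift.ext
  show p • v.down = 0
  exact congrArg Additive.ofMul h1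

end Groth.Agent.GaExt
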