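import Groth.Agent.GaExt.PerfectBase
import Groth.Agent.InvUfdLib.Trivial
import Groth.Agent.PicClLib.Basic
import Groth.Prelude.Def_PicLoc
import Mathlib.RingTheory.Polynomial.UniqueFactorization

/-!
# The affine line over a field has trivial Picard group
-/

set_option autoImplicit false
set_option backward.isDefEq.respectTransparency false
set_option linter.style.haveILetI false

universe u

open CategoryTheory Limits AlgebraicGeometry

namespace Groth.Agent.GaExt

open GrpSchLib

/-- The additive group over an affine base is the spectrum of a polynomial ring. -/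
theorem nonempty_Ga_iso (R : Type u) [CommRing R] :
    Nonempty (Red.Ga (Spec (CommRingCat.of R)) ≅ Ch (cR R) (Polynomial R)) := by
  obtain ⟨m, h1, h2⟩ := exists_line (R := R)
  refine ⟨⟨m, chPt Polynomial.X, h1, ?_⟩⟩
  rw [h2, Polynomial.aeval_X_left]
  apply Over.OverMorphism.ext
  exact Spec.map_id _

/-- Invertible modules on the affine line over a field are trivial. -/
theorem pic_trivial_Ga (k : Type u) [Field k]
    (L : (Red.Ga (Spec (CommRingCat.of k))).left.Modules) (hL : PicF.IsInvertible L) :
    Nonempty (L ≅ Coh.structureModule (Red.Ga (Spec (CommRingCat.of k))).left) := by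
  obtain ⟨e₀⟩ := nonempty_Ga_iso k
  let P := Red.Ga (Spec (CommRingCat.of k))
  let U : (Spec (CommRingCat.of (Polynomial k))).Opens := ⊤
  let e : P.left ≅ U.toScheme := (Over.forget _).mapIso e₀ ≪≫ (Scheme.topIso _).symm
  obtain ⟨i⟩ := InvUfdLib.nonempty_iso (R := CommRingCat.of (Polynomial k)) U
    ((Scheme.Modules.pullback e.inv).obj L) (PicClLib.isInvertible_pullback e.inv hL)
  exact ⟨((Scheme.Modules.pullbackId P.left).app L).symm ≪≫
    ((Scheme.Modules.pullbackCongr e.hom_inv_id.symm).app L) ≪≫
    ((Scheme.Modules.pullbackComp e.hom e.inv).app L).symm ≪≫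
    (Scheme.Modules.pullback e.hom).mapIso i ≪≫ PicLoc.pullbackStructureIso e.hom⟩

end Groth.Agent.GaExt
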