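import Groth.Agent.BiextSplit.Class
import Groth.Agent.PervTLib.ExtReal
import Mathlib.CategoryTheory.Sites.SheafCohomology.Basic
import Mathlib.CategoryTheory.Sites.Abelian
import Mathlib.RingTheory.Flat.TorsionFree
import Mathlib.RingTheory.Flat.Equalizer

/-!
# The first cohomology of an internal Hom sheaf

An internal Hom into an injective sheaf has no first cohomology: an extension of `ℤ` by it retracts, because the
tensor product with a subsheaf with torsion free quotient is injective.  It follows that `H¹(𝓗om(Q, G))` vanishes when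
`Ext¹(Q, G)` does.
-/

set_option autoImplicit false
set_option backward.isDefEq.respectTransparency false
set_option linter.style.haveILetI false

universe u

open CategoryTheory Limits Opposite TensorProduct

namespace Groth.Agent.GaExt

variable {C : Type (u + 1)} [Category.{u} C] {J : GrothendieckTopology C}
  [HasSheafify J AddCommGrpCat.{u + 1}]

section Tensor

variable (Q D E : Sheaf J AddCommGrpCat.{u + 1})

/-- The presheaf tensor product of two abelian sheaves. -/
noncomputable def tensPre : Cᵒᵖ ⥤ AddCommGrpCat.{u + 1} where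
  obj U := AddCommGrpCat.of (Q.obj.obj U ⊗[ℤ] D.obj.obj U)
  map k := AddCommGrpCat.ofHom
    (TensorProduct.map (Q.obj.map k).hom.toIntLinearMap (D.obj.map k).hom.toIntLinearMap).toAddMonoidHom
  map_id U := by
    refine AddCommGrpCat.ext fun x => ?_
    show TensorProduct.map _ _ x = x
    rw [show (Q.obj.map (𝟙 U)).hom.toIntLinearMap = LinearMap.id from LinearMap.ext fun q =>
      ConcreteCategory.congr_hom (Q.obj.map_id U) q,
      show (D.obj.map (𝟙 U)).hom.toIntLinearMap = LinearMap.id from LinearMap.ext fun q =>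
      ConcreteCategory.congr_hom (D.obj.map_id U) q, TensorProduct.map_id]
    rfl
  map_comp k l := by
    refine AddCommGrpCat.ext fun x => ?_
    show TensorProduct.map _ _ x = TensorProduct.map _ _ (TensorProduct.map _ _ x)
    rw [← LinearMap.comp_apply, ← TensorProduct.map_comp]
    congr 2
    · exact LinearMap.ext fun q => ConcreteCategory.congr_hom (Q.obj.map_comp k l) q
    · exact LinearMap.ext fun q => ConcreteCategory.congr_hom (D.obj.map_comp k l) q

variable {D E}

/-- Functoriality of the tensor product in the second variable. -/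
noncomputable def tensMap (i : D ⟶ E) : tensPre Q D ⟶ tensPre Q E where
  app U := AddCommGrpCat.ofHom ((i.hom.app U).hom.toIntLinearMap.lTensor (Q.obj.obj U)).toAddMonoidHom
  naturality U V k := by
    refine AddCommGrpCat.ext fun x => ?_
    show LinearMap.lTensor _ _ (TensorProduct.map _ _ x) = TensorProduct.map _ _ (LinearMap.lTensor _ _ x)
    induction x using TensorProduct.induction_on with
    | zero => simp
    | tmul q d =>
      simp only [TensorProduct.map_tmul, LinearMap.lTensor_tmul, AddMonoidHom.coe_toIntLinearMap]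
      exact congrArg _ (NatTrans.naturality_apply i.hom k d)
    | add x y hx hy => simp only [map_add, hx, hy]

end Tensor

variable {Q G I : Sheaf J AddCommGrpCat.{u + 1}}

theorem app_congr {U : C} (φ : Q.over U ⟶ I.over U) {V : C} {a b : V ⟶ U} (h : a = b) (q : Q.obj.obj (op V)) :
    φ.hom.app (op (Over.mk a)) q = φ.hom.app (op (Over.mk b)) q := by subst h; rfl

/-- Evaluation of a section of the internal Hom. -/
noncomputable def evT : tensPre Q (HomSh.homSh J Q I) ⟶ I.obj where
  app U := AddCommGrpCat.ofHom (TensorProduct.liftAddHom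
    (AddMonoidHom.mk' (fun q => AddMonoidHom.mk' (fun φ : Q.over U.unop ⟶ I.over U.unop =>
        (φ.hom.app (op (Over.mk (𝟙 U.unop))) q : I.obj.obj U)) (fun _ _ => rfl))
      (fun q q' => AddMonoidHom.ext fun φ => map_add (φ.hom.app (op (Over.mk (𝟙 U.unop)))).hom q q'))
    (fun r q φ => by rw [map_zsmul, map_zsmul]; rfl))
  naturality U V k := by
    refine AddCommGrpCat.ext fun x => ?_
    induction x using TensorProduct.induction_on with
    | zero => simp
    | tmul q φ =>
      let φ' : Q.over U.unop ⟶ I.over U.unop := φ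
      show φ'.hom.app (op (Over.mk (𝟙 V.unop ≫ k.unop))) (Q.obj.map k q) =
        I.obj.map k (φ'.hom.app (op (Over.mk (𝟙 U.unop))) q)
      rw [app_congr φ' (Category.id_comp k.unop)]
      exact NatTrans.naturality_apply φ'.hom
        (Over.homMk k.unop (Category.comp_id _) : Over.mk k.unop ⟶ Over.mk (𝟙 U.unop)).op q
    | add x y hx hy =>
      rw [map_add, map_add, hx, hy]

/-- A subsheaf of an extension of a torsion free sheaf is pure. -/
theorem mono_tensMap {D E Z : Sheaf J AddCommGrpCat.{u + 1}} (i : D ⟶ E) (q : E ⟶ Z) (w : i ≫ q = 0)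
    (hS : (ShortComplex.mk i q w).ShortExact) (hZ : ∀ n : ℤ, n ≠ 0 → Mono (n • 𝟙 Z)) (Q : Sheaf J AddCommGrpCat.{u + 1}) :
    Mono (tensMap Q i) := by
  haveI : Mono i := hS.mono_f
  haveI : ∀ U, Mono ((tensMap Q i).app U) := fun U => by
    rw [AddCommGrpCat.mono_iff_injective]
    let f := (i.hom.app U).hom.toIntLinearMap
    haveI : Module.Flat ℤ (E.obj.obj U ⧸ LinearMap.range f) := by
      rw [Module.Flat.flat_iff_torsion_eq_bot_of_isBezout, eq_bot_iff]
      rintro x ⟨⟨n, hn⟩, hx⟩
      obtain ⟨e, rfl⟩ := Submodule.mkQ_surjective _ x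
      have hn0 : n ≠ 0 := nonZeroDivisors.ne_zero hn
      change n • (LinearMap.range f).mkQ e = 0 at hx
      rw [← map_zsmul, Submodule.mkQ_apply, Submodule.Quotient.mk_eq_zero] at hx
      obtain ⟨d, hd⟩ := hx
      haveI := hZ n hn0
      have hz : q.hom.app U e = 0 := by
        apply BigSiteLib.FppfDesc.app_injective_of_mono (n • 𝟙 Z) U.unop
        rw [map_zero]
        show n • (q.hom.app U e) = 0
        rw [← map_zsmul]
        refine (congrArg (q.hom.app U).hom hd.symm).trans ?_
        exact congrArg (fun φ => φ.hom.app U d) w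
      obtain ⟨d', hd'⟩ := BiextSplit.sections_exact w hS U.unop e hz
      rw [Submodule.mem_bot, Submodule.mkQ_apply, Submodule.Quotient.mk_eq_zero]
      exact ⟨d', hd'⟩
    exact LinearMap.lTensor_injective_of_exact_of_flat (LinearMap.range f).mkQ (Submodule.mkQ_surjective _) f
      (BigSiteLib.FppfDesc.app_injective_of_mono i U.unop) (LinearMap.exact_map_mkQ_range f) (Q.obj.obj U)
  exact NatTrans.mono_of_mono_app _

/-- An extension of a torsion free sheaf by an internal Hom into an injective sheaf retracts. -/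
theorem exists_retraction [Injective I] {E Z : Sheaf J AddCommGrpCat.{u + 1}} (i : HomSh.homSh J Q I ⟶ E)
    (q : E ⟶ Z) (w : i ≫ q = 0) (hS : (ShortComplex.mk i q w).ShortExact)
    (hZ : ∀ n : ℤ, n ≠ 0 → Mono (n • 𝟙 Z)) : ∃ r : E ⟶ HomSh.homSh J Q I, i ≫ r = 𝟙 _ := by
  haveI := mono_tensMap i q w hS hZ Q
  haveI : Injective I.obj := Injective.injective_of_adjoint (sheafificationAdjunction J AddCommGrpCat.{u + 1}) I
  let ψ : tensPre Q E ⟶ I.obj := Injective.factorThru evT (tensMap Q i)
  have hψ : tensMap Q i ≫ ψ = evT := Injective.comp_factorThru _ _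
  have hnat : ∀ {U V : Cᵒᵖ} (k : U ⟶ V) (x : Q.obj.obj U) (e : E.obj.obj U),
      ψ.app V ((Q.obj.map k x) ⊗ₜ[ℤ] (E.obj.map k e)) = I.obj.map k (ψ.app U (x ⊗ₜ[ℤ] e)) := fun k x e =>
    NatTrans.naturality_apply ψ k (x ⊗ₜ[ℤ] e)
  let r₀ : ∀ U : Cᵒᵖ, E.obj.obj U → (Q.over U.unop ⟶ I.over U.unop) := fun U e =>
    ⟨{ app := fun W => AddCommGrpCat.ofHom (AddMonoidHom.mk'
          (fun x : Q.obj.obj (op W.unop.left) => ψ.app (op W.unop.left) (x ⊗ₜ[ℤ] E.obj.map W.unop.hom.op e))
          (fun x y => by rw [TensorProduct.add_tmul, map_add]))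
       naturality := fun W W' g => AddCommGrpCat.ext fun x => by
         show ψ.app _ ((Q.obj.map g.unop.left.op x) ⊗ₜ[ℤ] _) = I.obj.map g.unop.left.op (ψ.app _ _)
         rw [← hnat]
         congr 2
         rw [← Over.w g.unop, op_comp, Functor.map_comp]
         rfl }⟩
  refine ⟨⟨{ app := fun U => AddCommGrpCat.ofHom (AddMonoidHom.mk' (r₀ U) fun e e' =>
      Sheaf.hom_ext (NatTrans.ext (funext fun W => AddCommGrpCat.ext fun x => ?_)))
             naturality := fun U V k => AddCommGrpCat.ext fun e =>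
              Sheaf.hom_ext (NatTrans.ext (funext fun W => AddCommGrpCat.ext fun x => ?_)) }⟩,
    Sheaf.hom_ext (NatTrans.ext (funext fun U => AddCommGrpCat.ext fun φ =>
      Sheaf.hom_ext (NatTrans.ext (funext fun W => AddCommGrpCat.ext fun x => ?_))))⟩
  · show ψ.app _ (x ⊗ₜ[ℤ] _) = ψ.app _ (x ⊗ₜ[ℤ] _) + ψ.app _ (x ⊗ₜ[ℤ] _)
    rw [map_add, TensorProduct.tmul_add, map_add]
  · show ψ.app _ (x ⊗ₜ[ℤ] E.obj.map W.unop.hom.op (E.obj.map k e)) =
      ψ.app _ (x ⊗ₜ[ℤ] E.obj.map (W.unop.hom ≫ k.unop).op e)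
    rw [op_comp, Functor.map_comp]
    rfl
  · let φ' : Q.over U.unop ⟶ I.over U.unop := φ
    show ψ.app _ (x ⊗ₜ[ℤ] E.obj.map W.unop.hom.op (i.hom.app U φ')) = φ'.hom.app W x
    rw [← NatTrans.naturality_apply i.hom W.unop.hom.op φ']
    refine (ConcreteCategory.congr_hom (NatTrans.congr_app hψ (op W.unop.left))
      (x ⊗ₜ[ℤ] (HomSh.homSh J Q I).obj.map W.unop.hom.op φ')).trans ?_
    show φ'.hom.app (op (Over.mk (𝟙 _ ≫ W.unop.hom))) x = _
    rw [app_congr φ' (Category.id_comp _)]
    rfl

variable [HasExt.{u + 1} (Sheaf J AddCommGrpCat.{u + 1})]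

omit [HasExt.{u + 1} (Sheaf J AddCommGrpCat.{u + 1})] in
theorem mono_zsmul_constant (n : ℤ) (hn : n ≠ 0) :
    Mono (n • 𝟙 ((constantSheaf J AddCommGrpCat.{u + 1}).obj (AddCommGrpCat.of (ULift.{u + 1} ℤ)))) := by
  haveI : Mono (n • 𝟙 (AddCommGrpCat.of (ULift.{u + 1} ℤ))) := by
    rw [AddCommGrpCat.mono_iff_injective]
    intro a b h
    apply ULift.ext
    have h' : n • a.down = n • b.down := congrArg ULift.down h
    simpa [hn] using h'
  haveI : (Functor.const Cᵒᵖ (C := AddCommGrpCat.{u + 1})).PreservesMonomorphisms :=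
    ⟨fun f _ => by
      haveI : ∀ U, Mono (((Functor.const Cᵒᵖ).map f).app U) := fun U => inferInstanceAs (Mono f)
      exact NatTrans.mono_of_mono_app _⟩
  haveI hM : (Functor.const Cᵒᵖ (C := AddCommGrpCat.{u + 1}) ⋙
    presheafToSheaf J AddCommGrpCat.{u + 1}).PreservesMonomorphisms := inferInstance
  have h := hM.preserves (n • 𝟙 (AddCommGrpCat.of (ULift.{u + 1} ℤ)))
  change Mono ((constantSheaf J AddCommGrpCat.{u + 1}).map _) at h
  rwa [Functor.map_zsmul, CategoryTheory.Functor.map_id] at h

/-- An internal Hom into an injective sheaf has no first cohomology. -/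
theorem subsingleton_H_homSh_injective [Injective I] : Subsingleton (Sheaf.H (HomSh.homSh J Q I) 1) := by
  refine subsingleton_of_forall_eq 0 fun x => ?_
  obtain ⟨E, i, q, w, hS, rfl⟩ := PervTLib.exists_shortExact_extClass x
  obtain ⟨r, hr⟩ := exists_retraction i q w hS mono_zsmul_constant
  have h := congrArg (fun t => t.comp (Abelian.Ext.mk₀ r) (add_zero 1)) hS.extClass_comp
  simp only [Abelian.Ext.zero_comp, Abelian.Ext.comp_assoc_of_third_deg_zero, Abelian.Ext.mk₀_comp_mk₀] at h
  rw [hr, Abelian.Ext.comp_mk₀_id] at h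
  exact h

/-- `H¹(𝓗om(Q, G))` vanishes when `Ext¹(Q, G)` does. -/
theorem subsingleton_H_homSh [EnoughInjectives (Sheaf J AddCommGrpCat.{u + 1})] {T : C} (hT : IsTerminal T)
    (h : Subsingleton (Abelian.Ext Q G 1)) : Subsingleton (Sheaf.H (HomSh.homSh J Q G) 1) := by
  haveI := BiextSplit.preservesFiniteLimits_homShFunctor (J := J) Q
  let F := HomSh.homShFunctor J Q
  let ι := Injective.ι G
  let π := cokernel.π ι
  have hS : (ShortComplex.mk ι π (cokernel.condition _)).ShortExact :=
    { exact := ShortComplex.exact_of_g_is_cokernel _ (cokernelIsCokernel _) }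
  let ι' := F.map ι
  let π' := cokernel.π ι'
  haveI : Mono ι' := F.map_mono ι
  have hS' : (ShortComplex.mk ι' π' (cokernel.condition _)).ShortExact :=
    { exact := ShortComplex.exact_of_g_is_cokernel _ (cokernelIsCokernel _) }
  have hw : ι' ≫ F.map π = 0 := by rw [← F.map_comp, cokernel.condition, F.map_zero]
  let j := cokernel.desc ι' (F.map π) hw
  haveI : Mono j := by
    have hex : (ShortComplex.mk ι' (F.map π) hw).Exact :=
      ShortComplex.exact_of_f_is_kernel _ (KernelFork.mapIsLimit _ hS.fIsKernel F)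
    exact hex.mono_cokernelDesc
  refine subsingleton_of_forall_eq 0 fun x => ?_
  have hsub := subsingleton_H_homSh_injective (J := J) (Q := Q) (I := Injective.under G)
  obtain ⟨k₀, hk₀⟩ := Abelian.Ext.covariant_sequence_exact₁ _ hS' x (hsub.elim _ _) (zero_add 1)
  let k := Abelian.Ext.addEquiv₀ k₀
  -- a global section of the cokernel is a morphism, which lifts
  let ev := fun (M : Sheaf J AddCommGrpCat.{u + 1}) =>
    (constantSheafAdj J AddCommGrpCat.{u + 1} hT).homEquiv (AddCommGrpCat.of (ULift.{u + 1} ℤ)) M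
  let e : Q.over T ⟶ (cokernel ι).over T := AddCommGrpCat.uliftZMultiplesAddEquiv _ (ev _ (k ≫ j))
  let f : Q ⟶ cokernel ι :=
    ⟨{ app := fun U => AddCommGrpCat.ofHom (e.hom.app (op (Over.mk (hT.from U.unop)))).hom
       naturality := fun U V g => AddCommGrpCat.ext fun q =>
         NatTrans.naturality_apply e.hom
           (Over.homMk g.unop (hT.hom_ext _ _) : Over.mk (hT.from V.unop) ⟶ Over.mk (hT.from U.unop)).op q }⟩
  obtain ⟨g₀, hg₀⟩ := Abelian.Ext.covariant_sequence_exact₃ Q hS (Abelian.Ext.mk₀ f) (zero_add 1)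
    (h.elim _ _)
  let g := Abelian.Ext.addEquiv₀ g₀
  have hg : g ≫ π = f := by
    apply (Abelian.Ext.mk₀_bijective _ _).1
    rw [← hg₀, ← Abelian.Ext.mk₀_comp_mk₀]
    congr 1
    exact Abelian.Ext.mk₀_addEquiv₀_apply g₀
  let d : (HomSh.homSh J Q (Injective.under G)).obj.obj (op T) := (J.overPullback _ T).map g
  let l := (ev (HomSh.homSh J Q (Injective.under G))).symm ((AddCommGrpCat.uliftZMultiplesAddEquiv _).symm d)
  have hl : l ≫ F.map π = k ≫ j := by
    apply (ev _).injective
    rw [(constantSheafAdj J AddCommGrpCat.{u + 1} hT).homEquiv_naturality_right, Equiv.apply_symm_apply]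
    apply (AddCommGrpCat.uliftZMultiplesAddEquiv _).injective
    show (F.map π).hom.app (op T) (AddCommGrpCat.uliftZMultiplesAddEquiv _
      ((AddCommGrpCat.uliftZMultiplesAddEquiv _).symm d)) = e
    rw [AddEquiv.apply_symm_apply]
    refine Sheaf.hom_ext (NatTrans.ext (funext fun W => AddCommGrpCat.ext fun q => ?_))
    show π.hom.app _ (g.hom.app _ q) = _
    refine (congrArg (fun t => t.hom.app (op W.unop.left) q) hg).trans ?_
    exact app_congr e (hT.hom_ext _ _) q
  have hlk : l ≫ π' = k := by rw [← cancel_mono j, Category.assoc, cokernel.π_desc, hl]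
  rw [← hk₀, ← Abelian.Ext.mk₀_addEquiv₀_apply k₀]
  show (Abelian.Ext.mk₀ k).comp _ _ = 0
  rw [← hlk, ← Abelian.Ext.mk₀_comp_mk₀, Abelian.Ext.comp_assoc_of_second_deg_zero]
  erw [hS'.comp_extClass]
  exact Abelian.Ext.comp_zero ..

end Groth.Agent.GaExt
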