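import Groth.Agent.GaExt.RootExt

/-!
# Cocycle splittings after a finite free extension

The induction step of the splitting of a multiplicative cocycle is divided into the computation of the additive part,
over the given ring, and the splitting, once `p`-th roots are available.
-/

set_option autoImplicit false
set_option linter.style.haveILetI false

universe u

open MvPolynomial Groth.Agent.GaChar

namespace Groth.Agent.GaExt

variable {R : Type u} [CommRing R] (p : ℕ) [Fact p.Prime] [CharP R p]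

omit [CharP R p] in
theorem map_twS' {S : Type u} [CommRing S] (φ : R →+* S) (k : ℕ) :
    MvPolynomial.map φ (twS p k : MvPolynomial (Fin 2) R) = twS p k := by
  rw [twS, map_mvAeval φ _ ![X 0 ^ p ^ k, X 1 ^ p ^ k] (fun i => by fin_cases i <;> simp), map_univS]
  rfl

/-- The additive part of a cocycle congruent to one. -/
theorem exists_step_pre {I₀ K J : Ideal R} (hK : IsNilpotent K) (hIK : I₀ ≤ K) (hJ : J ≤ I₀)
    {h : MvPolynomial (Fin 2) R} (hh : IsMCoc h) (hmem : ∀ e, coeff e (h - 1) ∈ J) :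
    ∃ (G₀ : Polynomial R) (N : ℕ) (s : ℕ → R), (∀ n, G₀.coeff n ∈ J) ∧ (∀ i, s i ∈ J) ∧
      ∀ e, coeff e (h - (1 + cob G₀ + ∑ i ∈ Finset.range N, C (s i) * twS p i)) ∈ J * K := by
  classical
  have hp : p.Prime := Fact.out
  haveI : Nontrivial R := CharP.nontrivial_of_char_ne_one hp.ne_one
  obtain ⟨N₀, hN₀⟩ := hK
  have hKnil : ∀ a ∈ K, IsNilpotent a := fun a ha => ⟨N₀, by
    have := Ideal.pow_mem_pow ha N₀
    rwa [hN₀] at this⟩
  let L := J * K
  let φ := Ideal.Quotient.mk L
  have hL : L ≠ ⊤ := fun htop => by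
    obtain ⟨n, hn⟩ := hKnil 1 ((show L ≤ K from Ideal.mul_le_right) (htop ▸ Submodule.mem_top))
    simp at hn
  haveI : Nontrivial (R ⧸ L) := Ideal.Quotient.nontrivial_iff.mpr hL
  haveI : CharP (R ⧸ L) p := (CharP.charP_iff_prime_eq_zero hp).mpr (by rw [← map_natCast φ, CharP.cast_eq_zero, map_zero])
  let J' := J.map φ
  have hJJ : J' * J' = ⊥ := by
    rw [← Ideal.map_mul, Ideal.map_eq_bot_iff_le_ker, Ideal.mk_ker]
    exact Ideal.mul_mono_right (hJ.trans hIK)
  let F : MvPolynomial (Fin 2) (R ⧸ L) := MvPolynomial.map φ (h - 1)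
  have hFJ : ∀ e, coeff e F ∈ J' := fun e => by rw [coeff_map]; exact Ideal.mem_map_of_mem _ (hmem e)
  have hprod : ∀ (σ : Type) (v w : Fin 2 → MvPolynomial σ (R ⧸ L)), aeval v F * aeval w F = 0 := fun σ v w => by
    have hm : ∀ v : Fin 2 → MvPolynomial σ (R ⧸ L), aeval v F ∈ J'.map (C : (R ⧸ L) →+* MvPolynomial σ (R ⧸ L)) := fun v => by
      rw [MvPolynomial.as_sum F, map_sum]
      refine Ideal.sum_mem _ fun e _ => ?_
      rw [aeval_monomial, algebraMap_eq]
      exact Ideal.mul_mem_right _ _ (Ideal.mem_map_of_mem _ (hFJ e))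
    exact mul_eq_zero_of_map_C hJJ (hm v) (hm w)
  have hmap : MvPolynomial.map φ h = 1 + F := by simp only [F, map_sub, map_one]; abel
  have hF : GaChar.IsCoc F := by
    refine ⟨?_, ?_⟩
    · have h1 := congrArg (MvPolynomial.map φ) hh.1
      rw [map_mvAeval φ _ ![X 1, X 0] (fun i => by fin_cases i <;> simp), hmap, map_add, map_one] at h1
      exact add_left_cancel h1
    · have h1 := congrArg (MvPolynomial.map φ) hh.2
      rw [map_mul, map_mul, map_mvAeval φ (σ := Fin 3) (![X 0, X 1 + X 2] : Fin 2 → MvPolynomial (Fin 3) R) (![X 0, X 1 + X 2] : Fin 2 → MvPolynomial (Fin 3) (R ⧸ L)) (fun i => by fin_cases i <;> simp),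
        map_mvAeval φ (σ := Fin 3) (![X 1, X 2] : Fin 2 → MvPolynomial (Fin 3) R) (![X 1, X 2] : Fin 2 → MvPolynomial (Fin 3) (R ⧸ L)) (fun i => by fin_cases i <;> simp),
        map_mvAeval φ (σ := Fin 3) (![X 0 + X 1, X 2] : Fin 2 → MvPolynomial (Fin 3) R) (![X 0 + X 1, X 2] : Fin 2 → MvPolynomial (Fin 3) (R ⧸ L)) (fun i => by fin_cases i <;> simp),
        map_mvAeval φ (σ := Fin 3) (![X 0, X 1] : Fin 2 → MvPolynomial (Fin 3) R) (![X 0, X 1] : Fin 2 → MvPolynomial (Fin 3) (R ⧸ L)) (fun i => by fin_cases i <;> simp), hmap] at h1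
      simp only [map_add, map_one] at h1
      rw [coc_apply]
      linear_combination h1 - hprod (Fin 3) ![X 1, X 2] ![X 0, X 1 + X 2] + hprod (Fin 3) ![X 0 + X 1, X 2] ![X 0, X 1]
  obtain ⟨G, N, r, hFeq, hG, hr⟩ := hF.exists_decomp p J' hFJ
  choose g hgJ hg using fun n => (Ideal.mem_map_iff_of_surjective φ Ideal.Quotient.mk_surjective).mp (hG n)
  choose s hsJ hs using fun i => (Ideal.mem_map_iff_of_surjective φ Ideal.Quotient.mk_surjective).mp (hr i)
  let G₀ : Polynomial R := ∑ n ∈ Finset.range (G.natDegree + 1), Polynomial.C (g n) * Polynomial.X ^ n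
  have hG₀ : G₀.map φ = G := by
    conv_rhs => rw [G.as_sum_range_C_mul_X_pow]
    simp only [G₀, Polynomial.map_sum, Polynomial.map_mul, Polynomial.map_C, Polynomial.map_pow, Polynomial.map_X, hg]
  refine ⟨G₀, N, s, fun n => ?_, hsJ, fun e => ?_⟩
  · simp only [G₀, Polynomial.finsetSum_coeff, Polynomial.coeff_C_mul_X_pow]
    refine Ideal.sum_mem _ fun m _ => ?_
    split_ifs
    · exact hgJ m
    · exact zero_mem _
  · rw [← Ideal.Quotient.eq_zero_iff_mem, ← coeff_map, map_sub, hmap, hFeq]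
    simp only [map_add, map_one, map_sum, map_mul, map_C, cob, map_sub, map_aeval', map_X, hG₀, φ, L] at hs ⊢
    simp only [hs, map_twS']
    rw [add_assoc, sub_self, coeff_zero]

/-- The splitting of the additive part when its roots are given. -/
theorem exists_step_post {I₀ K J : Ideal R} (hK : IsNilpotent K) (hIK : I₀ ≤ K) (hJ : J ≤ I₀)
    {h : MvPolynomial (Fin 2) R} (hh : IsMCoc h) (G₀ : Polynomial R) (N : ℕ) (s a : ℕ → R)
    (hgJ : ∀ n, G₀.coeff n ∈ J) (hsJ : ∀ i, s i ∈ J) (haK : ∀ i, a i ∈ K) (ha : ∀ i < N, a i ^ p = s i)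
    (hcong : ∀ e, coeff e (h - (1 + cob G₀ + ∑ i ∈ Finset.range N, C (s i) * twS p i)) ∈ J * K) :
    ∃ (f : Polynomial R) (h' : MvPolynomial (Fin 2) R), IsUnit f ∧ IsMCoc h' ∧
      (∀ e, coeff e (h' - 1) ∈ J * K) ∧ ∃ k₀, Sol f k₀ ∧ k₀ * h' = h := by
  classical
  have hp : p.Prime := Fact.out
  haveI : Nontrivial R := CharP.nontrivial_of_char_ne_one hp.ne_one
  obtain ⟨N₀, hN₀⟩ := hK
  have hKnil : ∀ a ∈ K, IsNilpotent a := fun a ha => ⟨N₀, by
    have := Ideal.pow_mem_pow ha N₀
    rwa [hN₀] at this⟩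
  let L := J * K
  let φ := Ideal.Quotient.mk L
  have hL : L ≠ ⊤ := fun htop => by
    obtain ⟨n, hn⟩ := hKnil 1 ((show L ≤ K from Ideal.mul_le_right) (htop ▸ Submodule.mem_top))
    simp at hn
  haveI : Nontrivial (R ⧸ L) := Ideal.Quotient.nontrivial_iff.mpr hL
  haveI : CharP (R ⧸ L) p := (CharP.charP_iff_prime_eq_zero hp).mpr (by rw [← map_natCast φ, CharP.cast_eq_zero, map_zero])
  let J' := J.map φ
  have hJJ : J' * J' = ⊥ := by
    rw [← Ideal.map_mul, Ideal.map_eq_bot_iff_le_ker, Ideal.mk_ker]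
    exact Ideal.mul_mono_right (hJ.trans hIK)
  let G : Polynomial (R ⧸ L) := G₀.map φ
  have hG₀ : G₀.map φ = G := rfl
  let r : ℕ → R ⧸ L := fun i => φ (s i)
  have hs : ∀ i, φ (s i) = r i := fun i => rfl
  have hG : ∀ n, G.coeff n ∈ J' := fun n => by rw [Polynomial.coeff_map]; exact Ideal.mem_map_of_mem _ (hgJ n)
  have hr : ∀ i, r i ∈ J' := fun i => Ideal.mem_map_of_mem _ (hsJ i)
  let F : MvPolynomial (Fin 2) (R ⧸ L) := cob G + ∑ i ∈ Finset.range N, C (r i) * twS p i
  have hFeq : F = cob G + ∑ i ∈ Finset.range N, C (r i) * twS p i := rfl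
  have hmap : MvPolynomial.map φ h = 1 + F := by
    have h0 : MvPolynomial.map φ (h - (1 + cob G₀ + ∑ i ∈ Finset.range N, C (s i) * twS p i)) = 0 :=
      MvPolynomial.ext _ _ fun e => by rw [coeff_map, coeff_zero, Ideal.Quotient.eq_zero_iff_mem]; exact hcong e
    rw [map_sub, sub_eq_zero] at h0
    rw [h0, hFeq]
    simp only [map_add, map_one, map_sum, map_mul, map_C, cob, map_sub, map_aeval', map_X, G, r, map_twS',
      add_assoc]
  have hG₀nil : IsNilpotent G₀ := Polynomial.isNilpotent_iff.2 fun n => hKnil _ (hIK (hJ (hgJ n)))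
  let f : Polynomial R := (1 + G₀) * ∏ i ∈ Finset.range N, expp p (a i) i
  have hf : IsUnit f := (hG₀nil.isUnit_one_add).mul
    (Finset.prod_induction _ IsUnit (fun _ _ => IsUnit.mul) isUnit_one fun i _ => isUnit_expp p (hKnil _ (haK i)) i)
  have hfbar : Sol (f.map φ) (1 + F) := by
    have h1 := (sol_linear hJJ hG).mul (sol_prod (Finset.range N)
      (f := fun i => expp p (φ (a i)) i) (h := fun i => 1 + C ((φ (a i)) ^ p) * twS p i) fun i hi => sol_expp p (by
        rw [pow_succ, ← map_pow, ha i (Finset.mem_range.1 ‹_›), ← map_mul, Ideal.Quotient.eq_zero_iff_mem]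
        exact Ideal.mul_mem_mul (hsJ i) (haK i)) i)
    have e1 : f.map φ = (1 + G) * ∏ i ∈ Finset.range N, expp p (φ (a i)) i := by
      simp only [f, Polynomial.map_mul, Polynomial.map_add, Polynomial.map_one, Polynomial.map_prod, hG₀, expp_map]
    have hmC : ∀ (c : R ⧸ L) (P : MvPolynomial (Fin 2) (R ⧸ L)), c ∈ J' →
        C c * P ∈ J'.map (C : (R ⧸ L) →+* MvPolynomial (Fin 2) (R ⧸ L)) := fun c P hc =>
      Ideal.mul_mem_right _ _ (Ideal.mem_map_of_mem _ hc)
    have hcob : cob G ∈ J'.map (C : (R ⧸ L) →+* MvPolynomial (Fin 2) (R ⧸ L)) := by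
      have hm : ∀ v : MvPolynomial (Fin 2) (R ⧸ L),
          Polynomial.aeval v G ∈ J'.map (C : (R ⧸ L) →+* MvPolynomial (Fin 2) (R ⧸ L)) := fun v => by
        rw [Polynomial.aeval_eq_sum_range]
        exact Ideal.sum_mem _ fun i _ => by rw [MvPolynomial.smul_eq_C_mul]; exact hmC _ _ (hG i)
      exact Submodule.sub_mem _ (Submodule.sub_mem _ (hm _) (hm _)) (hm _)
    have hsum : ∑ i ∈ Finset.range N, C (r i) * twS p i ∈ J'.map (C : (R ⧸ L) →+* MvPolynomial (Fin 2) (R ⧸ L)) :=
      Ideal.sum_mem _ fun i _ => hmC _ _ (hr i)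
    rw [Finset.prod_congr rfl (f := fun i => 1 + C (φ (a i) ^ p) * (twS p i : MvPolynomial (Fin 2) (R ⧸ L)))
      (g := fun i => 1 + C (r i) * twS p i) fun i hi => by
      rw [← map_pow, ha i (Finset.mem_range.1 hi)]] at h1
    rw [prod_one_add (Finset.range N) (J'.map (C : (R ⧸ L) →+* MvPolynomial (Fin 2) (R ⧸ L)))
      (fun x hx y hy => mul_eq_zero_of_map_C hJJ hx hy) (fun i _ => hmC _ _ (hr i)), ← e1] at h1
    rw [hFeq]
    convert h1 using 1
    linear_combination -mul_eq_zero_of_map_C hJJ hcob hsum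
  obtain ⟨u, hu⟩ := hf.map (Polynomial.aeval (X 0 + X 1 : MvPolynomial (Fin 2) R))
  obtain ⟨v, hv⟩ := (hf.map (Polynomial.aeval (X 0 : MvPolynomial (Fin 2) R))).mul
    (hf.map (Polynomial.aeval (X 1 : MvPolynomial (Fin 2) R)))
  let hf' : MvPolynomial (Fin 2) R := (u : MvPolynomial (Fin 2) R) * ((v⁻¹ : (MvPolynomial (Fin 2) R)ˣ) : MvPolynomial (Fin 2) R)
  have hsol : Sol f hf' := by
    unfold Sol
    rw [← hu, ← hv]
    simp only [hf']
    rw [mul_left_comm, Units.mul_inv, mul_one]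
  let hinv : MvPolynomial (Fin 2) R := (v : MvPolynomial (Fin 2) R) * ((u⁻¹ : (MvPolynomial (Fin 2) R)ˣ) : MvPolynomial (Fin 2) R)
  have hinv1 : hf' * hinv = 1 := by
    simp only [hf', hinv]
    rw [← Units.val_mul, ← Units.val_mul, ← Units.val_mul, show u * v⁻¹ * (v * u⁻¹) = 1 by group, Units.val_one]
  refine ⟨f, h * hinv, hf, hh.mul ((hsol.isMCoc hf).inv hinv1), fun e => ?_, hf', hsol, ?_⟩
  · have hfb : MvPolynomial.map φ hf' = 1 + F :=
      (hsol.map φ).unique (hf.map (Polynomial.mapRingHom φ)) hfbar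
    have h1 : MvPolynomial.map φ (h * hinv) = 1 := by
      rw [map_mul, hmap, ← hfb, ← map_mul, hinv1, map_one]
    rw [← Ideal.Quotient.eq_zero_iff_mem, ← coeff_map, map_sub, h1, map_one, sub_self, coeff_zero]
  · rw [mul_left_comm, hinv1, mul_one]

omit [Fact p.Prime] [CharP R p] in
theorem isMCoc_map {S : Type u} [CommRing S] (φ : R →+* S) {h : MvPolynomial (Fin 2) R} (hh : IsMCoc h) :
    IsMCoc (MvPolynomial.map φ h) := by
  refine ⟨?_, ?_⟩
  · have h1 := congrArg (MvPolynomial.map φ) hh.1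
    rwa [map_mvAeval φ _ ![X 1, X 0] (fun i => by fin_cases i <;> simp)] at h1
  · have h1 := congrArg (MvPolynomial.map φ) hh.2
    rwa [map_mul, map_mul,
      map_mvAeval φ (σ := Fin 3) (![X 0, X 1 + X 2] : Fin 2 → MvPolynomial (Fin 3) R)
        (![X 0, X 1 + X 2] : Fin 2 → MvPolynomial (Fin 3) S) (fun i => by fin_cases i <;> simp),
      map_mvAeval φ (σ := Fin 3) (![X 1, X 2] : Fin 2 → MvPolynomial (Fin 3) R)
        (![X 1, X 2] : Fin 2 → MvPolynomial (Fin 3) S) (fun i => by fin_cases i <;> simp),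
      map_mvAeval φ (σ := Fin 3) (![X 0 + X 1, X 2] : Fin 2 → MvPolynomial (Fin 3) R)
        (![X 0 + X 1, X 2] : Fin 2 → MvPolynomial (Fin 3) S) (fun i => by fin_cases i <;> simp),
      map_mvAeval φ (σ := Fin 3) (![X 0, X 1] : Fin 2 → MvPolynomial (Fin 3) R)
        (![X 0, X 1] : Fin 2 → MvPolynomial (Fin 3) S) (fun i => by fin_cases i <;> simp)] at h1

omit [CharP R p] in
/-- The iteration. -/
theorem exists_rootExt_splitting_aux : ∀ (d : ℕ) {R : Type u} [CommRing R] [CharP R p] {ι : Type} [Finite ι]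
    (g b : ι → R), (∀ x, b x ^ p = g x) → ∀ (N t : ℕ), Ideal.span (Set.range b) ^ N = ⊥ → N ≤ t + d →
    ∀ k : MvPolynomial (Fin 2) R, IsMCoc k →
      (∀ e, coeff e (k - 1) ∈ Ideal.span (Set.range g) * Ideal.span (Set.range b) ^ t) →
      ∃ (e : RootExt R) (f : Polynomial e.B), IsUnit f ∧ Sol f (MvPolynomial.map (algebraMap R e.B) k) := by
  intro d
  induction d with
  | zero =>
    intro R _ _ ι _ g b _ N t hN ht k _ hmem
    haveI : Nontrivial R := CharP.nontrivial_of_char_ne_one (Fact.out : p.Prime).ne_one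
    have hz : Ideal.span (Set.range b) ^ t = ⊥ := by
      rw [← le_bot_iff]
      exact (Ideal.pow_le_pow_right (by omega : N ≤ t)).trans hN.le
    refine ⟨RootExt.refl R, 1, isUnit_one, ?_⟩
    rw [show k = 1 from sub_eq_zero.mp (MvPolynomial.ext _ _ fun e => by
      have := hmem e
      rwa [hz, Ideal.mul_bot, Ideal.mem_bot, ← coeff_zero (R := R) e] at this), map_one]
    exact sol_one
  | succ d ih =>
    intro R _ _ ι _ g b hb N t hN ht k hk hmem
    haveI : Nontrivial R := CharP.nontrivial_of_char_ne_one (Fact.out : p.Prime).ne_one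
    have hp : p.Prime := Fact.out
    have hgb : Ideal.span (Set.range g) ≤ Ideal.span (Set.range b) := Ideal.span_le.mpr (by
      rintro _ ⟨x, rfl⟩
      show g x ∈ Ideal.span (Set.range b)
      rw [← hb x]
      exact Ideal.pow_mem_of_mem _ (Ideal.subset_span (Set.mem_range_self x)) p hp.pos)
    obtain ⟨G₀, M, s, hG₀, hs, hcong⟩ := exists_step_pre p ⟨N, hN⟩ hgb Ideal.mul_le_left hk hmem
    cases nonempty_fintype ι
    choose c hc using fun i => (Submodule.mem_span_range_iff_exists_fun R).mp (Ideal.mul_le_left (hs i))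
    obtain ⟨e, he⟩ := exists_roots' (p := p) (fun x : Fin M × ι => c x.1 x.2)
    choose root hroot using he
    haveI := e.charP (p := p)
    let φ := algebraMap R e.B
    let g' := fun x => φ (g x)
    let b' := fun x => φ (b x)
    let a : ℕ → e.B := fun i => if hi : i < M then ∑ x, root (⟨i, hi⟩, x) * b' x else 0
    have hmapspan : ∀ f : ι → R, (Ideal.span (Set.range f)).map φ = Ideal.span (Set.range fun x => φ (f x)) :=
      fun f => by rw [Ideal.map_span, ← Set.range_comp]; rfl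
    have hJ' : (Ideal.span (Set.range g) * Ideal.span (Set.range b) ^ t).map φ =
        Ideal.span (Set.range g') * Ideal.span (Set.range b') ^ t := by
      rw [Ideal.map_mul, Ideal.map_pow, hmapspan, hmapspan]
    have hN' : Ideal.span (Set.range b') ^ N = ⊥ := by
      rw [← hmapspan, ← Ideal.map_pow, hN, Ideal.map_bot]
    have hgb' : Ideal.span (Set.range g') ≤ Ideal.span (Set.range b') := by
      rw [← hmapspan, ← hmapspan]; exact Ideal.map_mono hgb
    have haK : ∀ i, a i ∈ Ideal.span (Set.range b') := fun i => by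
      simp only [a]
      split_ifs
      · exact Ideal.sum_mem _ fun x _ => Ideal.mul_mem_left _ _ (Ideal.subset_span (Set.mem_range_self x))
      · exact zero_mem _
    have ha : ∀ i < M, a i ^ p = φ (s i) := fun i hi => by
      simp only [a, dif_pos hi]
      rw [sum_pow_char, ← hc i, map_sum]
      exact Finset.sum_congr rfl fun x _ => by rw [mul_pow, hroot, smul_eq_mul, map_mul, ← map_pow, hb]
    obtain ⟨f, k', hf, hk', hmem', k₀, hk₀, hkk⟩ := exists_step_post p (I₀ := Ideal.span (Set.range g'))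
      ⟨N, hN'⟩ hgb' Ideal.mul_le_left (isMCoc_map φ hk) (G₀.map φ) M (fun i => φ (s i)) a
      (fun n => by rw [Polynomial.coeff_map, ← hJ']; exact Ideal.mem_map_of_mem _ (hG₀ n))
      (fun i => by rw [← hJ']; exact Ideal.mem_map_of_mem _ (hs i)) haK ha (fun e' => by
        have h1 := Ideal.mem_map_of_mem φ (hcong e')
        rw [Ideal.map_mul, hJ', hmapspan, ← coeff_map] at h1
        simpa only [map_sub, map_add, map_one, map_sum, map_mul, map_C, cob, map_aeval', map_X, map_twS'] using h1)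
    obtain ⟨e₂, f₂, hf₂, hsol⟩ := ih g' b' (fun x => by rw [← map_pow, hb]) N (t + 1) hN' (by omega) k' hk' fun e' => by
      rw [pow_succ, ← mul_assoc]
      exact hmem' e'
    refine ⟨e.trans e₂, f.map (algebraMap e.B e₂.B) * f₂,
      (hf.map (Polynomial.mapRingHom (algebraMap e.B e₂.B))).mul hf₂, ?_⟩
    have h2 := (hk₀.map (algebraMap e.B e₂.B)).mul hsol
    rw [← map_mul, hkk, MvPolynomial.map_map] at h2
    exact h2

omit [CharP R p] in
/-- A cocycle splits after adjoining finitely many roots. -/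
theorem exists_rootExt_splitting {R : Type u} [CommRing R] [CharP R p] {h : MvPolynomial (Fin 2) R} (hu : IsUnit h)
    (hc0 : constantCoeff h = 1) (hh : IsMCoc h) :
    ∃ (e : RootExt R) (f : Polynomial e.B), IsUnit f ∧ Sol f (MvPolynomial.map (algebraMap R e.B) h) := by
  classical
  have hp : p.Prime := Fact.out
  haveI : Nontrivial R := CharP.nontrivial_of_char_ne_one hp.ne_one
  let T := (h - 1).support
  obtain ⟨e₁, he₁⟩ := exists_roots' (p := p) (fun x : T => coeff (x : Fin 2 →₀ ℕ) (h - 1))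
  choose b hb using he₁
  haveI := e₁.charP (p := p)
  let φ := algebraMap R e₁.B
  let n := Fintype.card T
  let ε := Fintype.equivFin T
  let b₁ : Fin n → e₁.B := fun x => b (ε.symm x)
  let g₁ : Fin n → e₁.B := fun x => φ (coeff (ε.symm x : Fin 2 →₀ ℕ) (h - 1))
  have hnil : ∀ x, IsNilpotent (b₁ x) := fun x => by
    have h1 : IsNilpotent (coeff (ε.symm x : Fin 2 →₀ ℕ) (h - 1)) := by
      generalize (ε.symm x : Fin 2 →₀ ℕ) = e
      rcases eq_or_ne e 0 with rfl | he
      · rw [coeff_sub, ← constantCoeff_eq, hc0]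
        simp
      · rw [coeff_sub, coeff_one, if_neg he.symm, sub_zero]
        exact (MvPolynomial.isUnit_iff.mp hu).2 e he
    obtain ⟨k, hk⟩ := h1.map φ
    exact ⟨p * k, by rw [pow_mul]; exact (congrArg (· ^ k) (hb _)).trans hk⟩
  have hK : IsNilpotent (Ideal.span (Set.range b₁)) :=
    (Ideal.FG.isNilpotent_iff_le_nilradical (Submodule.fg_span (Set.finite_range b₁))).mpr (Ideal.span_le.mpr (by
      rintro _ ⟨x, rfl⟩
      exact hnil x))
  obtain ⟨N, hN⟩ := hK
  obtain ⟨e₂, f, hf, hsol⟩ := exists_rootExt_splitting_aux p N g₁ b₁ (fun x => hb _) N 0 hN (by omega)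
    (MvPolynomial.map φ h) (isMCoc_map φ hh) fun e => by
      rw [pow_zero, Ideal.one_eq_top, Ideal.mul_top,
        show MvPolynomial.map φ h - 1 = MvPolynomial.map φ (h - 1) by rw [map_sub, map_one], coeff_map]
      by_cases he : e ∈ T
      · refine Ideal.subset_span ⟨ε ⟨e, he⟩, ?_⟩
        simp only [g₁, Equiv.symm_apply_apply]
      · rw [notMem_support_iff.mp he, map_zero]; exact zero_mem _
  refine ⟨e₁.trans e₂, f, hf, ?_⟩
  rw [MvPolynomial.map_map] at hsol
  exact hsol

end Groth.Agent.GaExt
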