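import Groth.Agent.GaExt.Sect
import Groth.Agent.GaExt.RootSplit
import Groth.Agent.GrpSchLib.GaPts
import Mathlib.Algebra.MvPolynomial.CommRing
import Mathlib.Algebra.Polynomial.AlgebraMap

/-!
# Additive families of sections lift fppf locally in characteristic `p`

Given an extension by the multiplicative group and, over an affine object, a natural additive family of sections of the
quotient indexed by the points of the additive group, the family lifts additively after a finite free extension.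
-/

set_option autoImplicit false
set_option backward.isDefEq.respectTransparency false
set_option linter.style.haveILetI false
set_option synthInstance.maxHeartbeats 400000

universe u

open CategoryTheory Limits AlgebraicGeometry Opposite MonoidalCategory CartesianMonoidalCategory TensorProduct
open scoped MonObj

namespace Groth.Agent.GaExt

open Adeq2Lib Adeq2Lib.AffVan GrpSchLib

variable {X : Scheme.{u}}

/-- A natural additive family indexed by the points of the additive group over the objects over `T`. -/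
structure AddData (P : Over X) [MonObj P] (G : Fp X) (T : Over X) where
  val : ∀ {W : Over X}, (W ⟶ T) → (W ⟶ P) → G.obj.obj (op W)
  res : ∀ {W W' : Over X} (m : W' ⟶ W) (a : W ⟶ T) (x : W ⟶ P),
    rA G m (val a x) = val (m ≫ a) (m ≫ x)
  add : ∀ {W : Over X} (a : W ⟶ T) (x x' : W ⟶ P), val a (x * x') = val a x + val a x'

variable {G : Fp X} {T : Over X} {P : Over X} [MonObj P]

/-- Restriction of an additive family. -/
def AddData.restrict (d : AddData P G T) {T' : Over X} (e : T' ⟶ T) : AddData P G T' where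
  val a x := d.val (a ≫ e) x
  res m a x := by rw [d.res, Category.assoc]
  add a x x' := d.add _ x x'

theorem AddData.map_one (d : AddData P G T) {W : Over X} (a : W ⟶ T) : d.val a (1 : W ⟶ P) = 0 := by
  have h := d.add a 1 1
  rwa [_root_.mul_one, left_eq_add] at h

theorem AddData.nsmul_eq_zero {p : ℕ} (d : AddData (Red.Ga X) G T) {W : Over X} (hp : (p : Γ(W.left, ⊤)) = 0)
    (a : W ⟶ T) (x : W ⟶ Red.Ga X) : p • d.val a x = 0 := by
  let ψ : Γ(W.left, ⊤) →+ G.obj.obj (op W) := AddMonoidHom.mk' (fun v => d.val a (GaPts.ptOfFn v)) fun v v' => by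
    rw [← d.add]
    congr 1
    apply GaPts.gaFn_injective
    show Red.gaFn _ = Red.gaFn _
    rw [GaPts.gaFn_mul, GaPts.gaFn_ptOfFn, GaPts.gaFn_ptOfFn, GaPts.gaFn_ptOfFn]
  have hx : d.val a x = ψ (Red.gaFn x) := by
    show _ = d.val a (GaPts.ptOfFn (Red.gaFn x))
    congr 1
    apply GaPts.gaFn_injective
    show Red.gaFn _ = Red.gaFn _
    rw [GaPts.gaFn_ptOfFn]
  rw [hx, ← _root_.map_nsmul, nsmul_eq_mul, hp, zero_mul, _root_.map_zero]

variable {A : Type u} [CommRing A] (c : Spec (CommRingCat.of A) ⟶ X)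

/-- An algebra as the functions of the affine object. -/
noncomputable def chFn (B : Type u) [CommRing B] [Algebra A B] : B →+* Γ((Ch c B).left, ⊤) :=
  (Scheme.ΓSpecIso (CommRingCat.of B)).inv.hom

variable {B B' : Type u} [CommRing B] [Algebra A B] [CommRing B'] [Algebra A B']

theorem chFn_res (f : B →ₐ[A] B') (q : B) : (chMap c f).left.appTop (chFn c B q) = chFn c B' (f q) :=
  (congrArg (fun k => k.hom q) (Scheme.ΓSpecIso_inv_naturality (CommRingCat.ofHom f.toRingHom))).symm

theorem chFn_chBase (r : A) : (chBase c B).left.appTop ((Scheme.ΓSpecIso (CommRingCat.of A)).inv r) =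
    chFn c B (algebraMap A B r) :=
  (congrArg (fun k => k.hom r) (Scheme.ΓSpecIso_inv_naturality (CommRingCat.ofHom (algebraMap A B)))).symm

/-- The point of the additive group attached to an element of an algebra. -/
noncomputable def gpt (q : B) : Ch c B ⟶ Red.Ga X := GaPts.ptOfFn (chFn c B q)

theorem gaFn_gpt (q : B) : Red.gaFn (gpt c q) = chFn c B q := GaPts.gaFn_ptOfFn _

theorem chMap_gpt (f : B →ₐ[A] B') (q : B) : chMap c f ≫ gpt c q = gpt c (f q) := by
  apply GaPts.gaFn_injective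
  show Red.gaFn _ = Red.gaFn _
  rw [GaPts.gaFn_comp, gaFn_gpt, gaFn_gpt, chFn_res]

theorem gpt_add (q q' : B) : gpt c (q + q') = gpt c q * gpt c q' := by
  apply GaPts.gaFn_injective
  show Red.gaFn _ = Red.gaFn _
  rw [GaPts.gaFn_mul, gaFn_gpt, gaFn_gpt, gaFn_gpt, map_add]

theorem gpt_zero : gpt c (0 : B) = 1 := by
  apply GaPts.gaFn_injective
  show Red.gaFn _ = Red.gaFn _
  rw [gaFn_gpt, GaPts.gaFn_one, map_zero]

theorem ext_line {W : Over X} {m m' : W ⟶ Ch c (Polynomial A)} (h1 : m ≫ chBase c _ = m' ≫ chBase c _)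
    (h2 : m ≫ gpt c Polynomial.X = m' ≫ gpt c Polynomial.X) : m = m' := by
  apply toCh_ext
  refine Polynomial.ringHom_ext (fun r => ?_) ?_
  · show m.left.appTop (chFn c _ (algebraMap A _ r)) = m'.left.appTop (chFn c _ (algebraMap A _ r))
    rw [← chFn_chBase]
    exact congrArg (fun k : W ⟶ Over.mk c => k.left.appTop ((Scheme.ΓSpecIso (CommRingCat.of A)).inv r)) h1
  · show m.left.appTop (chFn c _ Polynomial.X) = m'.left.appTop (chFn c _ Polynomial.X)
    rw [← gaFn_gpt, ← GaPts.gaFn_comp, ← GaPts.gaFn_comp, h2]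

theorem exists_line' {W : Over X} (a : W ⟶ Over.mk c) (x : W ⟶ Red.Ga X) :
    ∃ m : W ⟶ Ch c (Polynomial A), m ≫ chBase c _ = a ∧ m ≫ gpt c Polynomial.X = x := by
  obtain ⟨m, hm₁, hm⟩ := exists_toCh c (Polynomial A) a
    (Polynomial.eval₂RingHom (a.left.appTop.hom.comp (Scheme.ΓSpecIso (CommRingCat.of A)).inv.hom) (Red.gaFn x))
    (RingHom.ext fun r => Polynomial.eval₂_C _ _)
  refine ⟨m, hm₁, GaPts.gaFn_injective ?_⟩
  show Red.gaFn _ = _
  rw [GaPts.gaFn_comp, gaFn_gpt]
  exact (RingHom.congr_fun hm Polynomial.X).trans (Polynomial.eval₂_X _ _)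

theorem exists_plane {W : Over X} (a : W ⟶ Over.mk c) (x x' : W ⟶ Red.Ga X) :
    ∃ m : W ⟶ Ch c (MvPolynomial (Fin 2) A), m ≫ chBase c _ = a ∧
      m ≫ gpt c (MvPolynomial.X 0) = x ∧ m ≫ gpt c (MvPolynomial.X 1) = x' := by
  obtain ⟨m, hm₁, hm⟩ := exists_toCh c (MvPolynomial (Fin 2) A) a
    (MvPolynomial.eval₂Hom (a.left.appTop.hom.comp (Scheme.ΓSpecIso (CommRingCat.of A)).inv.hom)
      ![Red.gaFn x, Red.gaFn x'])
    (MvPolynomial.eval₂Hom_comp_C _ _)
  have h : ∀ i, Red.gaFn (m ≫ gpt c (MvPolynomial.X i)) = ![Red.gaFn x, Red.gaFn x'] i := fun i => by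
    rw [GaPts.gaFn_comp, gaFn_gpt]
    exact (RingHom.congr_fun hm _).trans (MvPolynomial.eval₂Hom_X' _ _ i)
  exact ⟨m, hm₁, GaPts.gaFn_injective (h 0), GaPts.gaFn_injective (h 1)⟩

variable {c}
variable (p : ℕ) [hp : Fact p.Prime] [CharP A p] (E : GmExt G) (d : AddData (Red.Ga X) G (Over.mk c))

include p hp in
/-- A lift of the universal value exists after a finite free extension. -/
theorem exists_universal_lift :
    ∃ (e : RootExt A) (y : E.F.obj.obj (op (Ch (Ch c e.B).hom (Polynomial e.B)))),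
      E.qs _ y = d.val (chBase (Ch c e.B).hom (Polynomial e.B) ≫ chBase c e.B)
        (gpt (Ch c e.B).hom (Polynomial.X : Polynomial e.B)) := by
  let P := Polynomial A
  let c₀ : Spec (CommRingCat.of P) ⟶ X := (Ch c P).hom
  let z : G.obj.obj (op (Over.mk c₀)) := d.val (chBase c P) (gpt c (Polynomial.X : P))
  obtain ⟨S, _, _, _, g, h, y₀, hg, hy₀, hb, hdesc⟩ := exists_cocycle E c₀ z
  have hpz : ∀ v : G.obj.obj (op (Over.mk c₀)), v = z → p • v = 0 := fun v hv => by
    have h0 : ((p : ℕ) : Γ((Ch c P).left, ⊤)) = 0 := by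
      rw [← map_natCast (chFn c P), CharP.cast_eq_zero, map_zero]
    subst hv
    exact d.nsmul_eq_zero h0 _ _
  obtain ⟨b, hbu, hbi⟩ := hb p (hpz z rfl)
  obtain ⟨n, u, v, f, a, hf, huv, hua, hlift⟩ := exists_unit_over (p := p) hg hbu hbi
  obtain ⟨e, he⟩ := exists_rootExt_good u v f a hf huv hua
  choose r hr using he
  letI : Algebra P (Polynomial e.B) := (Polynomial.mapRingHom (algebraMap A e.B)).toAlgebra
  obtain ⟨t, ht, hgt⟩ := hlift (Polynomial e.B) r hr
  obtain ⟨y, hy⟩ := hdesc (Polynomial e.B) t ht hgt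
  have hcomp : Spec.map (CommRingCat.ofHom (algebraMap P (Polynomial e.B))) ≫
      Spec.map (CommRingCat.ofHom (algebraMap A P)) =
      Spec.map (CommRingCat.ofHom (algebraMap e.B (Polynomial e.B))) ≫
        Spec.map (CommRingCat.ofHom (algebraMap A e.B)) := by
    rw [← Spec.map_comp, ← Spec.map_comp, ← CommRingCat.ofHom_comp, ← CommRingCat.ofHom_comp]
    congr 2
    exact Polynomial.mapRingHom_comp_C _
  let jι : Ch (Ch c e.B).hom (Polynomial e.B) ⟶ Ch c₀ (Polynomial e.B) := Over.homMk (𝟙 _) (by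
    show 𝟙 _ ≫ Spec.map _ ≫ Spec.map _ ≫ c = Spec.map _ ≫ Spec.map _ ≫ c
    rw [Category.id_comp, ← Category.assoc, hcomp, Category.assoc])
  refine ⟨e, rA E.F jι y, ?_⟩
  rw [E.qs_res, hy, rA_comp]
  show rA G _ (d.val _ _) = _
  rw [d.res]
  congr 1
  · apply Over.OverMorphism.ext
    show (𝟙 _ ≫ Spec.map _) ≫ Spec.map _ = Spec.map _ ≫ Spec.map _
    rw [Category.id_comp]
    exact hcomp
  · apply GaPts.gaFn_injective
    show Red.gaFn _ = Red.gaFn _
    rw [GaPts.gaFn_comp, gaFn_gpt, gaFn_gpt]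
    show (𝟙 _ ≫ Spec.map (CommRingCat.ofHom (algebraMap P (Polynomial e.B)))).appTop.hom
      ((Scheme.ΓSpecIso (CommRingCat.of P)).inv.hom Polynomial.X) = _
    rw [Category.id_comp]
    refine (congrArg (fun k => k.hom (Polynomial.X : P)) (Scheme.ΓSpecIso_inv_naturality
      (CommRingCat.ofHom (algebraMap P (Polynomial e.B))))).symm.trans ?_
    exact congrArg (chFn (Ch c e.B).hom (Polynomial e.B)) (Polynomial.map_X (algebraMap A e.B))

end Groth.Agent.GaExt
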