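import Groth.Agent.GaExt.LocalExt

/-!
# Correction of a universal lift to an additive one

A lift of the universal value of an additive family is additive up to a symmetric multiplicative cocycle, which splits
after a finite free extension.
-/

set_option autoImplicit false
set_option backward.isDefEq.respectTransparency false
set_option linter.style.haveILetI false
set_option synthInstance.maxHeartbeats 400000

universe u

open CategoryTheory Limits AlgebraicGeometry Opposite MonoidalCategory CartesianMonoidalCategory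
open scoped MonObj

namespace Groth.Agent.GaExt

open Adeq2Lib Adeq2Lib.AffVan GrpSchLib

variable {X : Scheme.{u}} {A : Type u} [CommRing A] (c : Spec (CommRingCat.of A) ⟶ X)
  {G : Fp X} (E : GmExt G) (d : AddData (Red.Ga X) G (Over.mk c))

/-- The value at an element of an algebra of a section over the affine line. -/
noncomputable def lineVal (y : E.F.obj.obj (op (Ch c (Polynomial A)))) {B : Type u} [CommRing B] [Algebra A B]
    (q : B) : E.F.obj.obj (op (Ch c B)) :=
  rA E.F (chMap c (Polynomial.aeval q)) y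

variable {c} {B B' : Type u} [CommRing B] [Algebra A B] [CommRing B'] [Algebra A B']

theorem lineVal_res (y : E.F.obj.obj (op (Ch c (Polynomial A)))) (g : B →ₐ[A] B') (q : B) :
    rA E.F (chMap c g) (lineVal c E y q) = lineVal c E y (g q) := by
  rw [lineVal, lineVal, rA_comp, chMap_comp]
  refine congrArg (fun k => rA E.F (chMap c k) y) (Polynomial.algHom_ext ?_)
  simp

theorem qs_lineVal {y : E.F.obj.obj (op (Ch c (Polynomial A)))}
    (hy : E.qs _ y = d.val (chBase c _) (gpt c (Polynomial.X : Polynomial A))) (q : B) :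
    E.qs _ (lineVal c E y q) = d.val (chBase c B) (gpt c q) := by
  rw [lineVal, E.qs_res, hy, d.res, chMap_base, chMap_gpt, Polynomial.aeval_X]

omit [CommRing B'] [Algebra A B'] in
theorem lineVal_sub (y y' : E.F.obj.obj (op (Ch c (Polynomial A)))) (q : B) :
    lineVal c E (y - y') q = lineVal c E y q - lineVal c E y' q := map_sub _ _ _

/-- A lift of the universal value can be normalised at the origin. -/
theorem exists_normalised {y : E.F.obj.obj (op (Ch c (Polynomial A)))}
    (hy : E.qs _ y = d.val (chBase c _) (gpt c (Polynomial.X : Polynomial A))) :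
    ∃ y₁, E.qs _ y₁ = d.val (chBase c _) (gpt c (Polynomial.X : Polynomial A)) ∧
      ∀ (B : Type u) [CommRing B] [Algebra A B], lineVal c E y₁ (0 : B) = 0 := by
  refine ⟨y - lineVal c E y (0 : Polynomial A), ?_, fun B _ _ => ?_⟩
  · rw [map_sub, hy, qs_lineVal E d hy, gpt_zero, d.map_one, sub_zero]
  · rw [lineVal_sub, sub_eq_zero]
    exact ((lineVal_res E y (Polynomial.aeval (0 : B)) (0 : Polynomial A)).trans
      (congrArg (lineVal c E y) (map_zero _))).symm

/-- The defect of additivity is a normalised symmetric cocycle. -/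
theorem exists_defect_cocycle {y : E.F.obj.obj (op (Ch c (Polynomial A)))}
    (hy : E.qs _ y = d.val (chBase c _) (gpt c (Polynomial.X : Polynomial A)))
    (h0 : ∀ (B : Type u) [CommRing B] [Algebra A B], lineVal c E y (0 : B) = 0) :
    ∃ h : (MvPolynomial (Fin 2) A)ˣ, MvPolynomial.constantCoeff (h : MvPolynomial (Fin 2) A) = 1 ∧
      GaChar.IsMCoc (h : MvPolynomial (Fin 2) A) ∧
      ∀ (B : Type u) [CommRing B] [Algebra A B] (g : MvPolynomial (Fin 2) A →ₐ[A] B),
        E.inc _ (chUnit c B (Units.map g.toRingHom.toMonoidHom h)) =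
          lineVal c E y (g (MvPolynomial.X 0)) + lineVal c E y (g (MvPolynomial.X 1)) -
            lineVal c E y (g (MvPolynomial.X 0) + g (MvPolynomial.X 1)) := by
  obtain ⟨γ, hγ⟩ := E.exists_inc (lineVal c E y (MvPolynomial.X 0 : MvPolynomial (Fin 2) A) +
    lineVal c E y (MvPolynomial.X 1 : MvPolynomial (Fin 2) A) -
    lineVal c E y (MvPolynomial.X 0 + MvPolynomial.X 1 : MvPolynomial (Fin 2) A)) (by
      rw [map_sub, map_add, qs_lineVal E d hy, qs_lineVal E d hy, qs_lineVal E d hy, gpt_add, d.add, sub_self])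
  let h : (MvPolynomial (Fin 2) A)ˣ := (chUnit c (MvPolynomial (Fin 2) A)).symm γ
  have key : ∀ (B : Type u) [CommRing B] [Algebra A B] (g : MvPolynomial (Fin 2) A →ₐ[A] B),
      E.inc _ (chUnit c B (Units.map g.toRingHom.toMonoidHom h)) =
        lineVal c E y (g (MvPolynomial.X 0)) + lineVal c E y (g (MvPolynomial.X 1)) -
          lineVal c E y (g (MvPolynomial.X 0) + g (MvPolynomial.X 1)) := by
    intro B _ _ g
    rw [← E.inc_chMap, MulEquiv.apply_symm_apply, hγ, map_sub, map_add, lineVal_res, lineVal_res, lineVal_res,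
      map_add]
  have hinj : ∀ (B : Type u) [CommRing B] [Algebra A B],
      Function.Injective (fun u : Bˣ => E.inc _ (chUnit c B u)) := fun B _ _ a b h =>
    (chUnit c B).injective (E.inc_injective _ h)
  refine ⟨h, ?_, ⟨?_, ?_⟩, key⟩
  · have h1 : Units.map (MvPolynomial.aeval (0 : Fin 2 → A)).toRingHom.toMonoidHom h = 1 := by
      apply hinj A
      show E.inc _ _ = E.inc _ _
      rw [key, map_one, E.inc_one, MvPolynomial.aeval_X, MvPolynomial.aeval_X]
      simp only [Pi.zero_apply, add_zero, h0, sub_self]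
    have h2 := congrArg Units.val h1
    change (MvPolynomial.aeval (0 : Fin 2 → A)) (h : MvPolynomial (Fin 2) A) = 1 at h2
    simpa [MvPolynomial.aeval_zero] using h2
  · refine congrArg Units.val (hinj (MvPolynomial (Fin 2) A) (a₁ := Units.map (MvPolynomial.aeval
      ![(MvPolynomial.X 1 : MvPolynomial (Fin 2) A), MvPolynomial.X 0]).toRingHom.toMonoidHom h) (a₂ := h) ?_)
    show E.inc _ _ = E.inc _ _
    rw [key, MulEquiv.apply_symm_apply, hγ, MvPolynomial.aeval_X, MvPolynomial.aeval_X]
    simp only [Matrix.cons_val_zero, Matrix.cons_val_one]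
    rw [add_comm (MvPolynomial.X 1 : MvPolynomial (Fin 2) A) (MvPolynomial.X 0)]
    abel
  · let x : Fin 3 → MvPolynomial (Fin 3) A := MvPolynomial.X
    let φ : ∀ a b : MvPolynomial (Fin 3) A, (MvPolynomial (Fin 3) A)ˣ := fun a b =>
      Units.map (MvPolynomial.aeval ![a, b]).toRingHom.toMonoidHom h
    refine congrArg Units.val (hinj _ (a₁ := φ (x 1) (x 2) * φ (x 0) (x 1 + x 2))
      (a₂ := φ (x 0 + x 1) (x 2) * φ (x 0) (x 1)) ?_)
    show E.inc _ _ = E.inc _ _
    simp only [φ, map_mul, E.inc_mul]
    rw [key, key, key, key, MvPolynomial.aeval_X, MvPolynomial.aeval_X, MvPolynomial.aeval_X, MvPolynomial.aeval_X,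
      MvPolynomial.aeval_X, MvPolynomial.aeval_X, MvPolynomial.aeval_X, MvPolynomial.aeval_X]
    simp only [Matrix.cons_val_zero, Matrix.cons_val_one, add_assoc]
    abel

section Tower

variable (c) (R' : Type u) [CommRing R'] [Algebra A R']

/-- The base over an extension. -/
noncomputable def extC : Spec (CommRingCat.of R') ⟶ X := (Ch c R').hom

/-- An algebra over the extension as an algebra over the base. -/
noncomputable def towerHom (B : Type u) [CommRing B] [Algebra A B] [Algebra R' B] [IsScalarTower A R' B] :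
    Ch (extC c R') B ⟶ Ch c B :=
  Over.homMk (𝟙 _) (by
    show 𝟙 _ ≫ Spec.map (CommRingCat.ofHom (algebraMap A B)) ≫ c =
      Spec.map (CommRingCat.ofHom (algebraMap R' B)) ≫ Spec.map (CommRingCat.ofHom (algebraMap A R')) ≫ c
    rw [Category.id_comp, ← Category.assoc, ← Spec.map_comp, ← CommRingCat.ofHom_comp,
      ← IsScalarTower.algebraMap_eq])

/-- The extension over the base. -/
noncomputable def extBase : Over.mk (extC c R') ⟶ Over.mk c :=
  Over.homMk (Spec.map (CommRingCat.ofHom (algebraMap A R'))) rfl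

variable {R'} [Algebra R' B] [IsScalarTower A R' B]

theorem towerHom_chBase : towerHom c R' B ≫ chBase c B = chBase (extC c R') B ≫ extBase c R' := by
  apply Over.OverMorphism.ext
  show 𝟙 _ ≫ Spec.map _ = Spec.map _ ≫ Spec.map _
  rw [Category.id_comp, ← Spec.map_comp, ← CommRingCat.ofHom_comp, ← IsScalarTower.algebraMap_eq]

theorem towerHom_chFn (q : B) : (towerHom c R' B).left.appTop.hom (chFn c B q) = chFn (extC c R') B q := by
  show (Scheme.Hom.appTop (𝟙 (Spec (CommRingCat.of B)))).hom _ = _
  rw [Scheme.Hom.id_appTop]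
  rfl

theorem towerHom_gpt (q : B) : towerHom c R' B ≫ gpt c q = gpt (extC c R') q := by
  apply GaPts.gaFn_injective
  show Red.gaFn _ = Red.gaFn _
  rw [GaPts.gaFn_comp, gaFn_gpt, gaFn_gpt]
  exact towerHom_chFn c q

theorem towerHom_inc (u : Bˣ) :
    rA E.F (towerHom c R' B) (E.inc _ (chUnit c B u)) = E.inc _ (chUnit (extC c R') B u) := by
  rw [E.inc_res]
  exact congrArg _ (Units.ext (towerHom_chFn c (u : B)))

theorem chMap_towerHom [Algebra R' B'] [IsScalarTower A R' B'] (g : B →ₐ[R'] B') :
    chMap (extC c R') g ≫ towerHom c R' B = towerHom c R' B' ≫ chMap c (g.restrictScalars A) :=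
  Over.OverMorphism.ext ((Category.comp_id _).trans (Category.id_comp _).symm)

/-- The value after correction by a unit. -/
theorem lineVal_corrected (y : E.F.obj.obj (op (Ch c (Polynomial A)))) (f : (Polynomial R')ˣ) (q : B) :
    lineVal (extC c R') E (rA E.F (towerHom c R' (Polynomial R')) (lineVal c E y (Polynomial.X : Polynomial R')) +
        E.inc _ (chUnit (extC c R') (Polynomial R') f)) q =
      rA E.F (towerHom c R' B) (lineVal c E y q) +
        E.inc _ (chUnit (extC c R') B (Units.map (Polynomial.aeval q).toRingHom.toMonoidHom f)) := by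
  rw [lineVal, map_add, E.inc_chMap, rA_comp, chMap_towerHom, ← rA_comp, lineVal_res]
  congr 3
  exact Polynomial.aeval_X q

/-- A split defect gives additivity on the universal pair. -/
theorem corrected_add {y : E.F.obj.obj (op (Ch c (Polynomial A)))} {h : (MvPolynomial (Fin 2) A)ˣ}
    (key : ∀ (B : Type u) [CommRing B] [Algebra A B] (g : MvPolynomial (Fin 2) A →ₐ[A] B),
        E.inc _ (chUnit c B (Units.map g.toRingHom.toMonoidHom h)) =
          lineVal c E y (g (MvPolynomial.X 0)) + lineVal c E y (g (MvPolynomial.X 1)) -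
            lineVal c E y (g (MvPolynomial.X 0) + g (MvPolynomial.X 1)))
    (f : (Polynomial R')ˣ)
    (hsol : GaChar.Sol (f : Polynomial R') (MvPolynomial.map (algebraMap A R') (h : MvPolynomial (Fin 2) A))) :
    lineVal (extC c R') E (rA E.F (towerHom c R' (Polynomial R')) (lineVal c E y (Polynomial.X : Polynomial R')) +
          E.inc _ (chUnit (extC c R') (Polynomial R') f))
        (MvPolynomial.X 0 + MvPolynomial.X 1 : MvPolynomial (Fin 2) R') =
      lineVal (extC c R') E (rA E.F (towerHom c R' (Polynomial R')) (lineVal c E y (Polynomial.X : Polynomial R')) +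
          E.inc _ (chUnit (extC c R') (Polynomial R') f)) (MvPolynomial.X 0 : MvPolynomial (Fin 2) R') +
        lineVal (extC c R') E (rA E.F (towerHom c R' (Polynomial R')) (lineVal c E y (Polynomial.X : Polynomial R')) +
          E.inc _ (chUnit (extC c R') (Polynomial R') f)) (MvPolynomial.X 1 : MvPolynomial (Fin 2) R') := by
  rw [lineVal_corrected, lineVal_corrected, lineVal_corrected]
  let g : MvPolynomial (Fin 2) A →ₐ[A] MvPolynomial (Fin 2) R' := MvPolynomial.mapAlgHom (Algebra.ofId A R')
  have hgX : ∀ i, g (MvPolynomial.X i) = MvPolynomial.X i := fun i => MvPolynomial.map_X _ i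
  have hdef := congrArg (rA E.F (towerHom c R' (MvPolynomial (Fin 2) R'))) (key _ g)
  rw [hgX, hgX, map_sub, map_add, towerHom_inc] at hdef
  have hu : Units.map (Polynomial.aeval (MvPolynomial.X 0 + MvPolynomial.X 1 : MvPolynomial (Fin 2) R')).toRingHom.toMonoidHom f =
      Units.map (Polynomial.aeval (MvPolynomial.X 0 : MvPolynomial (Fin 2) R')).toRingHom.toMonoidHom f *
        Units.map (Polynomial.aeval (MvPolynomial.X 1 : MvPolynomial (Fin 2) R')).toRingHom.toMonoidHom f *
          Units.map g.toRingHom.toMonoidHom h := Units.ext hsol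
  rw [hu, map_mul, map_mul, E.inc_mul, E.inc_mul, hdef]
  abel

end Tower

/-- A lift which is additive on the universal pair gives an additive family. -/
theorem exists_family {y : E.F.obj.obj (op (Ch c (Polynomial A)))}
    (hy : E.qs _ y = d.val (chBase c _) (gpt c (Polynomial.X : Polynomial A)))
    (huniv : lineVal c E y (MvPolynomial.X 0 + MvPolynomial.X 1 : MvPolynomial (Fin 2) A) =
      lineVal c E y (MvPolynomial.X 0 : MvPolynomial (Fin 2) A) +
        lineVal c E y (MvPolynomial.X 1 : MvPolynomial (Fin 2) A)) :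
    ∃ δ : AddData (Red.Ga X) E.F (Over.mk c),
      ∀ {W : Over X} (a : W ⟶ Over.mk c) (x : W ⟶ Red.Ga X), E.qs W (δ.val a x) = d.val a x := by
  choose m hm using fun (W : Over X) (a : W ⟶ Over.mk c) (x : W ⟶ Red.Ga X) => exists_line' c a x
  refine ⟨⟨fun {W} a x => rA E.F (m W a x) y, fun {W W'} k a x => ?_, fun {W} a x x' => ?_⟩, fun {W} a x => ?_⟩
  · rw [rA_comp]
    refine congrArg (fun t => rA E.F t y) (ext_line c ?_ ?_)
    · rw [Category.assoc, (hm W a x).1]; exact (hm W' (k ≫ a) (k ≫ x)).1.symm
    · rw [Category.assoc, (hm W a x).2, (hm W' (k ≫ a) (k ≫ x)).2]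
  · obtain ⟨k, hk, hk0, hk1⟩ := exists_plane c a x x'
    have hline : ∀ (q : MvPolynomial (Fin 2) A) (z : W ⟶ Red.Ga X), k ≫ gpt c q = z →
        rA E.F (m W a z) y = rA E.F k (lineVal c E y q) := by
      intro q z hz
      rw [lineVal, rA_comp]
      refine congrArg (fun t => rA E.F t y) (ext_line c ?_ ?_)
      · rw [(hm W a z).1, Category.assoc, chMap_base]; exact hk.symm
      · rw [(hm W a z).2, Category.assoc, chMap_gpt, Polynomial.aeval_X, hz]
    rw [hline (MvPolynomial.X 0 + MvPolynomial.X 1) (x * x') (by rw [gpt_add, MonObj.comp_mul, hk0, hk1]),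
      hline _ x hk0, hline _ x' hk1, huniv, map_add]
  · show E.qs W (rA E.F _ y) = _
    rw [E.qs_res, hy, d.res, (hm W a x).1, (hm W a x).2]

variable (p : ℕ) [hp : Fact p.Prime] [CharP A p]

include p hp in
/-- An additive lift exists after a further extension. -/
theorem exists_additive_lift {y : E.F.obj.obj (op (Ch c (Polynomial A)))}
    (hy : E.qs _ y = d.val (chBase c _) (gpt c (Polynomial.X : Polynomial A))) :
    ∃ (e : RootExt A) (δ : AddData (Red.Ga X) E.F (Ch c e.B)),
      ∀ {W : Over X} (a : W ⟶ Ch c e.B) (x : W ⟶ Red.Ga X), E.qs W (δ.val a x) = d.val (a ≫ chBase c e.B) x := by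
  obtain ⟨y₁, hy₁, h0⟩ := exists_normalised E d hy
  obtain ⟨h, hc0, hcoc, key⟩ := exists_defect_cocycle E d hy₁ h0
  obtain ⟨e, f, hf, hsol⟩ := exists_rootExt_splitting p h.isUnit hc0 hcoc
  obtain ⟨f, rfl⟩ := hf
  let y₂ := rA E.F (towerHom c e.B (Polynomial e.B)) (lineVal c E y₁ (Polynomial.X : Polynomial e.B)) +
    E.inc _ (chUnit (extC c e.B) (Polynomial e.B) f)
  have hy₂ : E.qs _ y₂ = (d.restrict (extBase c e.B)).val (chBase (extC c e.B) _)
      (gpt (extC c e.B) (Polynomial.X : Polynomial e.B)) := by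
    simp only [y₂]
    rw [map_add, E.qs_inc, add_zero, E.qs_res, qs_lineVal E d hy₁, d.res, towerHom_chBase, towerHom_gpt]
    rfl
  obtain ⟨δ, hδ⟩ := exists_family E (d.restrict (extBase c e.B)) hy₂ (corrected_add c E key f hsol)
  exact ⟨e, δ, fun a x => hδ a x⟩

end Groth.Agent.GaExt
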