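import Groth.Agent.GaExt.Split
import Groth.Agent.GrpSchLib.GaPts
import Mathlib.Algebra.MvPolynomial.CommRing
import Mathlib.Algebra.Polynomial.AlgebraMap

/-!
# Extensions of the additive group by the multiplicative group over an affine base with surjective Frobenius
-/

set_option autoImplicit false
set_option backward.isDefEq.respectTransparency false
set_option linter.style.haveILetI false

universe u

open CategoryTheory Limits AlgebraicGeometry Opposite MonoidalCategory CartesianMonoidalCategory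
open scoped MonObj

namespace Groth.Agent.GaExt

open Adeq2Lib Adeq2Lib.AffVan GrpSchLib

variable (R : Type u) [CommRing R]

/-- The affine base. -/
noncomputable abbrev cR : Spec (CommRingCat.of R) ⟶ Spec (CommRingCat.of R) := 𝟙 _

/-- The scalars in the functions of an object. -/
noncomputable def stFn (T : Over (Spec (CommRingCat.of R))) : R →+* Γ(T.left, ⊤) :=
  T.hom.appTop.hom.comp (Scheme.ΓSpecIso (CommRingCat.of R)).inv.hom

/-- An algebra as the functions of its spectrum. -/
noncomputable def toFn (B : Type u) [CommRing B] [Algebra R B] : B →+* Γ((Ch (cR R) B).left, ⊤) :=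
  (Scheme.ΓSpecIso (CommRingCat.of B)).inv.hom

variable {R}

theorem stFn_res {T T' : Over (Spec (CommRingCat.of R))} (m : T' ⟶ T) (r : R) :
    m.left.appTop (stFn R T r) = stFn R T' r := by
  show m.left.appTop.hom (T.hom.appTop.hom _) = T'.hom.appTop.hom _
  rw [← Over.w m]
  rfl

theorem stFn_ch (B : Type u) [CommRing B] [Algebra R B] (r : R) :
    stFn R (Ch (cR R) B) r = toFn R B (algebraMap R B r) := by
  show (Spec.map (CommRingCat.ofHom (algebraMap R B)) ≫ 𝟙 _).appTop.hom _ = _
  rw [Category.comp_id]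
  exact (congrArg (fun k => k.hom r) (Scheme.ΓSpecIso_inv_naturality (CommRingCat.ofHom (algebraMap R B)))).symm

variable {B B' : Type u} [CommRing B] [Algebra R B] [CommRing B'] [Algebra R B']

theorem toFn_res (f : B →ₐ[R] B') (q : B) : (chMap (cR R) f).left.appTop (toFn R B q) = toFn R B' (f q) :=
  (congrArg (fun k => k.hom q) (Scheme.ΓSpecIso_inv_naturality (CommRingCat.ofHom f.toRingHom))).symm

/-- The point attached to an element of an algebra. -/
noncomputable def chPt (q : B) : Ch (cR R) B ⟶ Red.Ga (Spec (CommRingCat.of R)) := GaPts.ptOfFn (toFn R B q)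

theorem gaFn_chPt (q : B) : Red.gaFn (chPt (R := R) q) = toFn R B q := GaPts.gaFn_ptOfFn _

theorem chMap_chPt (f : B →ₐ[R] B') (q : B) : chMap (cR R) f ≫ chPt q = chPt (f q) := by
  apply GaPts.gaFn_injective
  show Red.gaFn _ = Red.gaFn _
  rw [GaPts.gaFn_comp, gaFn_chPt, gaFn_chPt, toFn_res]

theorem chPt_add (q q' : B) : chPt (R := R) (q + q') = chPt q * chPt q' := by
  apply GaPts.gaFn_injective
  show Red.gaFn _ = Red.gaFn _
  rw [GaPts.gaFn_mul, gaFn_chPt, gaFn_chPt, gaFn_chPt, map_add]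

theorem chPt_zero : chPt (R := R) (0 : B) = 1 := by
  apply GaPts.gaFn_injective
  show Red.gaFn _ = Red.gaFn _
  rw [gaFn_chPt, GaPts.gaFn_one, map_zero]

theorem exists_pair {T : Over (Spec (CommRingCat.of R))} (a b : T ⟶ Red.Ga (Spec (CommRingCat.of R))) :
    ∃ m : T ⟶ Ch (cR R) (MvPolynomial (Fin 2) R),
      m ≫ chPt (MvPolynomial.X 0) = a ∧ m ≫ chPt (MvPolynomial.X 1) = b := by
  let φ : MvPolynomial (Fin 2) R →+* Γ(T.left, ⊤) :=
    MvPolynomial.eval₂Hom (stFn R T) ![Red.gaFn a, Red.gaFn b]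
  obtain ⟨m, -, hm⟩ := exists_toCh (cR R) (MvPolynomial (Fin 2) R) (Over.homMk T.hom (Category.comp_id _)) φ
    (MvPolynomial.eval₂Hom_comp_C _ _)
  have h : ∀ i, Red.gaFn (m ≫ chPt (MvPolynomial.X i)) = ![Red.gaFn a, Red.gaFn b] i := fun i => by
    rw [GaPts.gaFn_comp, gaFn_chPt]
    exact (RingHom.congr_fun hm (MvPolynomial.X i)).trans (MvPolynomial.eval₂Hom_X' _ _ i)
  exact ⟨m, GaPts.gaFn_injective (h 0), GaPts.gaFn_injective (h 1)⟩

theorem exists_line : ∃ m : Red.Ga (Spec (CommRingCat.of R)) ⟶ Ch (cR R) (Polynomial R),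
    m ≫ chPt Polynomial.X = 𝟙 _ ∧
      ∀ {B : Type u} [CommRing B] [Algebra R B] (q : B), chPt q ≫ m = chMap (cR R) (Polynomial.aeval q) := by
  let P := Red.Ga (Spec (CommRingCat.of R))
  let φ : Polynomial R →+* Γ(P.left, ⊤) := Polynomial.eval₂RingHom (stFn R P) (Red.gaFn (𝟙 P))
  obtain ⟨m, -, hm⟩ := exists_toCh (cR R) (Polynomial R) (Over.homMk P.hom (Category.comp_id _)) φ
    (RingHom.ext fun r => Polynomial.eval₂_C _ _)
  have hX : m.left.appTop (toFn R _ Polynomial.X) = Red.gaFn (𝟙 P) :=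
    (RingHom.congr_fun hm Polynomial.X).trans (Polynomial.eval₂_X _ _)
  have h1 : m ≫ chPt Polynomial.X = 𝟙 P := by
    apply GaPts.gaFn_injective
    show Red.gaFn _ = Red.gaFn _
    rw [GaPts.gaFn_comp, gaFn_chPt, hX]
  refine ⟨m, h1, fun {B} _ _ q => toCh_ext (cR R) ?_⟩
  refine Polynomial.ringHom_ext (fun r => ?_) ?_
  · show (chPt q ≫ m).left.appTop (toFn R _ (algebraMap R _ r)) =
      (chMap (cR R) (Polynomial.aeval q)).left.appTop (toFn R _ (algebraMap R _ r))
    rw [← stFn_ch, stFn_res, stFn_res]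
  · show (chPt q ≫ m).left.appTop (toFn R _ Polynomial.X) =
      (chMap (cR R) (Polynomial.aeval q)).left.appTop (toFn R _ Polynomial.X)
    rw [toFn_res, Polynomial.aeval_X, ← gaFn_chPt Polynomial.X, ← GaPts.gaFn_comp, Category.assoc, h1,
      Category.comp_id, gaFn_chPt]

variable {p : ℕ}

theorem nsmul_sect [CharP R p] {T : Over (Spec (CommRingCat.of R))}
    (v : (CGrpSh.pts Scheme.fppfPrecoverage (Red.Ga (Spec (CommRingCat.of R)))).obj.obj (op T)) : p • v = 0 := by
  let g : (CGrpSh.pts Scheme.fppfPrecoverage (Red.Ga (Spec (CommRingCat.of R)))).obj.obj (op T) →+ Γ(T.left, ⊤) :=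
    AddMonoidHom.mk' (fun x => Red.gaFn x.down.toMul) fun x y => GaPts.gaFn_mul _ _
  have hg : Function.Injective g := fun x y h =>
    ULift.ext _ _ (Additive.toMul.injective (GaPts.gaFn_injective h))
  apply hg
  rw [map_nsmul, map_zero, nsmul_eq_mul]
  have h0 : ((p : ℕ) : Γ(T.left, ⊤)) = 0 := by
    rw [← map_natCast (stFn R T), CharP.cast_eq_zero, map_zero]
  rw [h0, zero_mul]

end Groth.Agent.GaExt
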