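import Groth.Agent.GaExt.Alg
import Groth.Agent.GaChar.MulCocycle
import Mathlib.RingTheory.AdjoinRoot
import Mathlib.RingTheory.Flat.FaithfullyFlat.Basic
import Mathlib.LinearAlgebra.FreeModule.Finite.Basic

/-!
# Trivialisations after adjoining finitely many `p`-th roots

Over an arbitrary ring of characteristic `p` the two algebraic inputs of the vanishing of extensions of the additive
group hold after a finite free extension: `p`-th roots modulo nilpotents of the transition functions, and splittings
of multiplicative symmetric cocycles.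
-/

set_option autoImplicit false
set_option linter.style.haveILetI false

universe u

open TensorProduct Algebra.TensorProduct

namespace Groth.Agent.GaExt

open LineDesc GaChar

/-- A finite free nonzero algebra. -/
structure RootExt (R : Type u) [CommRing R] where
  B : Type u
  [commRing : CommRing B]
  [algebra : Algebra R B]
  [free : Module.Free R B]
  [finite : Module.Finite R B]
  [nontrivial : Nontrivial B]

attribute [instance] RootExt.commRing RootExt.algebra RootExt.free RootExt.finite RootExt.nontrivial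

variable {p : ℕ} [hp : Fact p.Prime] {R : Type u} [CommRing R]

/-- The trivial extension. -/
def RootExt.refl (R : Type u) [CommRing R] [Nontrivial R] : RootExt R where B := R

/-- Composition of extensions. -/
noncomputable def RootExt.trans (e : RootExt R) (e' : RootExt e.B) : RootExt R :=
  letI : Algebra R e'.B := ((algebraMap e.B e'.B).comp (algebraMap R e.B)).toAlgebra
  haveI : IsScalarTower R e.B e'.B := IsScalarTower.of_algebraMap_eq' rfl
  haveI : Module.Free R e'.B := Module.Free.trans (R := R) (S := e.B)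
  haveI : Module.Finite R e'.B := Module.Finite.trans e.B e'.B
  { B := e'.B }

theorem RootExt.trans_algebraMap (e : RootExt R) (e' : RootExt e.B) :
    @algebraMap R (e.trans e').B _ _ (e.trans e').algebra = (algebraMap e.B e'.B).comp (algebraMap R e.B) :=
  rfl

theorem RootExt.injective [Nontrivial R] (e : RootExt R) : Function.Injective (algebraMap R e.B) :=
  FaithfulSMul.algebraMap_injective R e.B

theorem RootExt.charP [CharP R p] (e : RootExt R) : CharP e.B p :=
  (CharP.charP_iff_prime_eq_zero Fact.out).2 (by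
    rw [← map_natCast (algebraMap R e.B), CharP.cast_eq_zero, map_zero])

/-- Finitely many elements acquire `p`-th roots in a finite free extension. -/
theorem exists_roots [CharP R p] : ∀ {n : ℕ} (s : Fin n → R),
    ∃ e : RootExt R, ∀ i, ∃ b : e.B, b ^ p = algebraMap R e.B (s i) := by
  haveI : Nontrivial R := CharP.nontrivial_of_char_ne_one hp.out.ne_one
  intro n
  induction n with
  | zero => exact fun s => ⟨RootExt.refl R, fun i => i.elim0⟩
  | succ n ih =>
    intro s
    obtain ⟨e, he⟩ := ih (fun i => s i.succ)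
    haveI := e.charP (p := p)
    let g : Polynomial e.B := Polynomial.X ^ p - Polynomial.C (algebraMap R e.B (s 0))
    have hg : g.Monic := Polynomial.monic_X_pow_sub_C _ hp.out.ne_zero
    haveI := hg.free_adjoinRoot
    haveI := hg.finite_adjoinRoot
    haveI : Nontrivial (AdjoinRoot g) := Ideal.Quotient.nontrivial_iff.2 (by
      rw [Ne, Ideal.span_singleton_eq_top]
      intro hu
      have h1 : g.natDegree = p := Polynomial.natDegree_X_pow_sub_C
      rw [hg.isUnit_iff.1 hu, Polynomial.natDegree_one] at h1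
      exact hp.out.ne_zero h1.symm)
    let e' : RootExt e.B := { B := AdjoinRoot g }
    refine ⟨e.trans e', fun i => ?_⟩
    induction i using Fin.cases with
    | zero =>
      refine ⟨AdjoinRoot.root g, ?_⟩
      have h1 := AdjoinRoot.mk_self (f := g)
      simp only [g, map_sub, map_pow, AdjoinRoot.mk_X, AdjoinRoot.mk_C, sub_eq_zero] at h1
      exact h1
    | succ i =>
      obtain ⟨b, hb⟩ := he i
      refine ⟨algebraMap e.B (AdjoinRoot g) b, ?_⟩
      show algebraMap e.B (AdjoinRoot g) b ^ p = algebraMap e.B (AdjoinRoot g) (algebraMap R e.B (s i.succ))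
      rw [← map_pow, hb]

/-- Roots for a family indexed by any finite type. -/
theorem exists_roots' [CharP R p] {ι : Type*} [Finite ι] (s : ι → R) :
    ∃ e : RootExt R, ∀ i, ∃ b : e.B, b ^ p = algebraMap R e.B (s i) := by
  cases nonempty_fintype ι
  obtain ⟨e, he⟩ := exists_roots (p := p) (fun i => s ((Fintype.equivFin ι).symm i))
  exact ⟨e, fun i => by simpa using he (Fintype.equivFin ι i)⟩

section Unit

variable {A S : Type u} [CommRing A] [CommRing S] [Algebra A S] [Module.FaithfullyFlat A S]

/-- The criterion behind `exists_unit`, relative to an algebra `C`. -/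
theorem exists_unit_over [CharP A p] {g h : S ⊗[A] S} (hg : IsCoc g h) {b : S} (hb : IsUnit b)
    (hgb : b ∈ invSet (g ^ p)) :
    ∃ (n : ℕ) (u v f : Fin n → A) (a : Fin n → Fin n → A), ∑ l, f l = 1 ∧ (∀ l, u l * v l = f l ^ p) ∧
      (∀ l m, u l * f m ^ p = a l m ^ p * u m) ∧
      ∀ (C : Type u) [CommRing C] [Algebra A C] (d : Fin n → C),
        (∀ l, IsNilpotent (d l ^ p - algebraMap A C (u l))) →
        ∃ t : C ⊗[A] S, IsUnit t ∧ Algebra.TensorProduct.includeRight (R := A) (A := C) g *
            Algebra.TensorProduct.map (AlgHom.id A C) Algebra.TensorProduct.includeLeft t =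
          Algebra.TensorProduct.map (AlgHom.id A C) Algebra.TensorProduct.includeRight t := by
  classical
  obtain ⟨n, s, w, f, hs, hw, hsw, hf⟩ := exists_pairs hg
  obtain ⟨b', hbb'⟩ := hb.exists_right_inv
  have hb' : b' ∈ invSet (h ^ p) := by
    show h ^ p * (b' ⊗ₜ[A] 1) = 1 ⊗ₜ[A] b'
    have h1 : g ^ p * (b ⊗ₜ[A] (1 : S)) = 1 ⊗ₜ[A] b := hgb
    have h2 : ((1 : S) ⊗ₜ[A] b) * ((1 : S) ⊗ₜ[A] b') = 1 := by simp [hbb', Algebra.TensorProduct.one_def]
    have h3 : (b ⊗ₜ[A] (1 : S)) * (b' ⊗ₜ[A] (1 : S)) = 1 := by simp [hbb', Algebra.TensorProduct.one_def]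
    calc h ^ p * (b' ⊗ₜ[A] (1 : S))
        = h ^ p * (b' ⊗ₜ[A] (1 : S)) * (((1 : S) ⊗ₜ[A] b) * ((1 : S) ⊗ₜ[A] b')) := by rw [h2, mul_one]
      _ = (g * h) ^ p * ((b ⊗ₜ[A] (1 : S)) * (b' ⊗ₜ[A] (1 : S))) * ((1 : S) ⊗ₜ[A] b') := by rw [← h1]; ring
      _ = 1 ⊗ₜ[A] b' := by rw [hg.mul_eq, h3, one_pow, one_mul, one_mul]
  have hhg : h ^ p * g ^ p = 1 := by rw [← mul_pow, mul_comm, hg.mul_eq, one_pow]
  have hgh : g ^ p * h ^ p = 1 := by rw [← mul_pow, hg.mul_eq, one_pow]
  choose u hu using fun l => exists_algebraMap_eq (x := w l ^ p * b)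
    (hhg ▸ invSet_mul (invSet_pow (hw l) p) hgb)
  choose v hv using fun l => exists_algebraMap_eq (x := s l ^ p * b')
    (hgh ▸ invSet_mul (invSet_pow (hs l) p) hb')
  choose a ha using fun l m => exists_algebraMap_eq (x := w l * s m)
    (hg.symm.mul_eq ▸ invSet_mul (hw l) (hs m))
  have hinj := FaithfulSMul.algebraMap_injective A S
  refine ⟨n, u, v, f, a, hf, fun l => hinj (by
      rw [map_mul, map_pow, hu, hv, hsw]
      linear_combination (s l * w l) ^ p * hbb'),
    fun l m => hinj (by simp only [map_mul, map_pow, hu, hsw, ha]; ring), fun C _ _ d hd => ?_⟩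
  refine ⟨∑ l, d l ⊗ₜ[A] s l, ?_, ?_⟩
  · refine (isUnit_pow_iff hp.out.ne_zero).1 ?_
    rcases subsingleton_or_nontrivial (C ⊗[A] S) with hsub | hnt
    · exact isUnit_of_subsingleton _
    haveI : CharP (C ⊗[A] S) p := (CharP.charP_iff_prime_eq_zero hp.out).2 (by
      rw [← map_natCast (algebraMap A (C ⊗[A] S)), CharP.cast_eq_zero, map_zero])
    rw [sum_pow_char]
    have hmove : ∀ (c : A) (y : S), algebraMap A C c ⊗ₜ[A] y = (1 : C) ⊗ₜ[A] (algebraMap A S c * y) := fun c y => by
      rw [Algebra.algebraMap_eq_smul_one, TensorProduct.smul_tmul, Algebra.smul_def]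
    have h1 : ∑ l, (d l ⊗ₜ[A] s l) ^ p =
        (1 : C) ⊗ₜ[A] b + ∑ l, (d l ^ p - algebraMap A C (u l)) ⊗ₜ[A] (s l ^ p) := by
      have h3 : ∀ l, (1 : C) ⊗ₜ[A] (algebraMap A S (f l ^ p) * b) = algebraMap A C (u l) ⊗ₜ[A] (s l ^ p) := fun l => by
        rw [hmove, hu, map_pow, hsw]
        congr 1
        ring
      have h2 : (1 : C) ⊗ₜ[A] b = ∑ l, algebraMap A C (u l) ⊗ₜ[A] (s l ^ p) := by
        rw [← Finset.sum_congr rfl fun l _ => h3 l, ← TensorProduct.tmul_sum, ← Finset.sum_mul, ← map_sum,
          ← sum_pow_char, hf, one_pow, map_one, one_mul]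
      rw [h2, ← Finset.sum_add_distrib]
      exact Finset.sum_congr rfl fun l _ => by
        rw [Algebra.TensorProduct.tmul_pow, TensorProduct.sub_tmul, add_sub_cancel]
    rw [h1]
    refine IsNilpotent.isUnit_add_left_of_commute (isNilpotent_sum fun l _ => ?_)
      (hb.map (Algebra.TensorProduct.includeRight : S →ₐ[A] C ⊗[A] S)) (Commute.all _ _)
    rw [show (d l ^ p - algebraMap A C (u l)) ⊗ₜ[A] (s l ^ p) =
      ((d l ^ p - algebraMap A C (u l)) ⊗ₜ[A] (1 : S)) * ((1 : C) ⊗ₜ[A] (s l ^ p)) by simp]
    exact (Commute.all _ _).isNilpotent_mul_right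
      ((hd l).map (Algebra.TensorProduct.includeLeft : C →ₐ[A] C ⊗[A] S))
  · simp only [map_sum, Finset.mul_sum, Algebra.TensorProduct.map_tmul, AlgHom.coe_id, id,
      Algebra.TensorProduct.includeLeft_apply, Algebra.TensorProduct.includeRight_apply]
    refine Finset.sum_congr rfl fun l _ => ?_
    rw [Algebra.TensorProduct.tmul_mul_tmul, one_mul]
    exact congrArg _ (hs l)

end Unit

open Polynomial in
/-- In the polynomial ring the transition functions have nilpotent coefficients outside the multiples of `p`. -/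
theorem isNilpotent_coeff [CharP R p] {n : ℕ} (u v f : Fin n → R[X]) (a : Fin n → Fin n → R[X]) (hf : ∑ l, f l = 1)
    (huv : ∀ l, u l * v l = f l ^ p) (hua : ∀ l m, u l * f m ^ p = a l m ^ p * u m) (l : Fin n) (i : ℕ)
    (hi : ¬ p ∣ i) : IsNilpotent ((u l).coeff i) := by
  have hnil : ∀ i, IsNilpotent ((derivative (u l)).coeff i) := by
    intro i
    rw [← mem_nilradical, nilradical_eq_sInf, Ideal.mem_sInf]
    intro P hP
    haveI : P.IsPrime := hP
    let K := FractionRing (R ⧸ P)
    let φ : R →+* K := (algebraMap (R ⧸ P) K).comp (Ideal.Quotient.mk P)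
    haveI : CharP K p := (CharP.charP_iff_prime_eq_zero Fact.out).2 (by rw [← map_natCast φ, CharP.cast_eq_zero, map_zero])
    let ψ := Polynomial.mapRingHom φ
    have h := derivative_eq_zero_domain (fun j => ψ (u j)) (fun j => ψ (v j)) (fun j => ψ (f j))
      (fun i j => ψ (a i j)) (by rw [← map_sum, hf, map_one]) (fun j => by rw [← map_mul, huv, map_pow])
      (fun i j => by rw [← map_pow, ← map_mul, hua, map_mul, map_pow]) l
    have h' := congrArg (fun q => q.coeff i) h
    simp only [ψ, coe_mapRingHom, derivative_map, coeff_map, coeff_zero] at h'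
    rw [show φ ((derivative (u l)).coeff i) = algebraMap (R ⧸ P) K (Ideal.Quotient.mk P ((derivative (u l)).coeff i))
      from rfl, FaithfulSMul.algebraMap_eq_zero_iff, Ideal.Quotient.eq_zero_iff_mem] at h'
    exact h'
  obtain ⟨j, rfl⟩ : ∃ j, i = j + 1 := ⟨i - 1, by
    have : i ≠ 0 := fun h => hi (h ▸ dvd_zero p)
    omega⟩
  have h1 := hnil j
  rw [coeff_derivative] at h1
  obtain ⟨c, hc⟩ := ((ZMod.isUnit_iff_coprime (j + 1) p).2
    (Nat.Coprime.symm (hp.out.coprime_iff_not_dvd.2 hi))).map (ZMod.castHom (dvd_refl p) R) |>.exists_right_inv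
  rw [map_natCast] at hc
  have h2 := (Commute.all _ c).isNilpotent_mul_right h1
  have h3 : (u l).coeff (j + 1) * ((j : R) + 1) * c = (u l).coeff (j + 1) := by
    rw [mul_assoc]; push_cast at hc; rw [hc, mul_one]
  rwa [h3] at h2

open Polynomial in
/-- The transition functions have roots modulo nilpotents after adjoining roots of their coefficients. -/
theorem exists_rootExt_good [CharP R p] {n : ℕ} (u v f : Fin n → R[X]) (a : Fin n → Fin n → R[X]) (hf : ∑ l, f l = 1)
    (huv : ∀ l, u l * v l = f l ^ p) (hua : ∀ l m, u l * f m ^ p = a l m ^ p * u m) :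
    ∃ e : RootExt R, ∀ l, ∃ d : (e.B)[X], IsNilpotent (d ^ p - (u l).map (algebraMap R e.B)) := by
  classical
  let N := Finset.univ.sup (fun l => (u l).natDegree) + 1
  obtain ⟨e, he⟩ := exists_roots' (p := p) (fun i : Fin n × Fin N => (u i.1).coeff (i.2 * p))
  choose b hb using he
  haveI := e.charP (p := p)
  refine ⟨e, fun l => ⟨∑ j : Fin N, Polynomial.C (b (l, j)) * X ^ (j : ℕ), Polynomial.isNilpotent_iff.2 fun i => ?_⟩⟩
  have hd : (∑ j : Fin N, Polynomial.C (b (l, j)) * X ^ (j : ℕ)) ^ p =
      expand e.B p (∑ j : Fin N, Polynomial.C (algebraMap R e.B ((u l).coeff (j * p))) * X ^ (j : ℕ)) := by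
    rw [sum_pow_char, map_sum]
    exact Finset.sum_congr rfl fun j _ => by
      rw [mul_pow, ← C_pow, hb, map_mul, expand_C, map_pow, expand_X, ← pow_mul, ← pow_mul, mul_comm p]
  rw [coeff_sub, hd, coeff_map, coeff_expand hp.out.pos]
  split_ifs with hdvd
  · obtain ⟨k, rfl⟩ := hdvd
    rw [Nat.mul_div_cancel_left _ hp.out.pos, finsetSum_coeff]
    simp only [coeff_C_mul_X_pow]
    rcases lt_or_ge k N with hk | hk
    · rw [Finset.sum_eq_single (⟨k, hk⟩ : Fin N)]
      · rw [if_pos rfl, mul_comm, sub_self]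
        exact IsNilpotent.zero
      · exact fun j _ hj => if_neg fun h => hj (Fin.ext h.symm)
      · exact fun h => absurd (Finset.mem_univ _) h
    · rw [Finset.sum_eq_zero fun j _ => if_neg fun h => absurd j.2 (by omega),
        coeff_eq_zero_of_natDegree_lt, map_zero, sub_self]
      · exact IsNilpotent.zero
      · have h1 : (u l).natDegree ≤ Finset.univ.sup (fun l => (u l).natDegree) :=
          Finset.le_sup (f := fun l => (u l).natDegree) (Finset.mem_univ l)
        have h2 := Nat.le_mul_of_pos_left k hp.out.pos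
        omega
  · rw [zero_sub]
    exact ((isNilpotent_coeff u v f a hf huv hua l i hdvd).map (algebraMap R e.B)).neg

end Groth.Agent.GaExt
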