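import Groth.Agent.GaExt.Alg
import Groth.Agent.Adeq2Lib.AffineVanish
import Groth.Agent.BigSiteLib.FppfDesc.LocExact
import Groth.Prelude.Def_CGrpSh2
import Groth.Prelude.Def_GmPts
import Mathlib.RingTheory.Localization.Away.Basic

/-!
# Sections of an fppf extension by the multiplicative group over affine schemes

A section of the quotient lifts Zariski locally; it lifts globally when its multiple by the characteristic is zero
and the ring is good.
-/

set_option autoImplicit false
set_option backward.isDefEq.respectTransparency false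
set_option linter.style.haveILetI false

universe u

open CategoryTheory Limits AlgebraicGeometry Opposite TensorProduct
open scoped MonObj

namespace Groth.Agent.GaExt

open Adeq2Lib Adeq2Lib.AffVan

variable {X : Scheme.{u}}

/-- Abelian sheaves on the big fppf site. -/
abbrev Fp (X : Scheme.{u}) : Type (u + 2) := BigSite.Ab Scheme.fppfPrecoverage X

/-- An extension of a sheaf by the multiplicative group. -/
structure GmExt (G : Fp X) where
  /-- The middle sheaf. -/
  F : Fp X
  /-- The inclusion. -/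
  i : CGrpSh2.Gm Scheme.fppfPrecoverage X ⟶ F
  /-- The projection. -/
  q : F ⟶ G
  zero : i ≫ q = 0
  shortExact : (ShortComplex.mk i q zero).ShortExact

variable {G : Fp X} (E : GmExt G)

/-- The projection on sections. -/
noncomputable abbrev GmExt.qs (T : Over X) : E.F.obj.obj (op T) →+ G.obj.obj (op T) := (E.q.hom.app (op T)).hom

theorem GmExt.qs_res {T T' : Over X} (m : T' ⟶ T) (x : E.F.obj.obj (op T)) :
    E.qs T' (rA E.F m x) = rA G m (E.qs T x) :=
  ConcreteCategory.congr_hom (E.q.hom.naturality m.op) x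

/-- A unit as a section of the extension. -/
noncomputable def GmExt.inc (T : Over X) (c : (Γ(T.left, ⊤))ˣ) : E.F.obj.obj (op T) :=
  (E.i.hom.app (op T)).hom ((CGrpSh.sectEquiv Scheme.fppfPrecoverage (Red.Gm X) T).symm
    (Additive.ofMul (GmPts.ptOfUnit c)))

theorem GmExt.inc_mul {T : Over X} (c c' : (Γ(T.left, ⊤))ˣ) : E.inc T (c * c') = E.inc T c + E.inc T c' := by
  rw [GmExt.inc, GmPts.ptOfUnit_mul, ofMul_mul, map_add, map_add]
  rfl

theorem GmExt.inc_one (T : Over X) : E.inc T 1 = 0 := by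
  have := E.inc_mul (T := T) 1 1
  rwa [mul_one, left_eq_add] at this

theorem GmExt.inc_inv {T : Over X} (c : (Γ(T.left, ⊤))ˣ) : E.inc T c⁻¹ = - E.inc T c :=
  eq_neg_of_add_eq_zero_left (by rw [← E.inc_mul, inv_mul_cancel, E.inc_one])

theorem GmExt.inc_pow {T : Over X} (c : (Γ(T.left, ⊤))ˣ) (n : ℕ) : E.inc T (c ^ n) = n • E.inc T c := by
  induction n with
  | zero => rw [pow_zero, E.inc_one, zero_smul]
  | succ n ih => rw [pow_succ, E.inc_mul, ih, succ_nsmul]

theorem GmExt.inc_res {T T' : Over X} (m : T' ⟶ T) (c : (Γ(T.left, ⊤))ˣ) :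
    rA E.F m (E.inc T c) = E.inc T' (Units.map m.left.appTop.hom.toMonoidHom c) := by
  refine (ConcreteCategory.congr_hom (E.i.hom.naturality m.op) _).symm.trans ?_
  refine congrArg (E.i.hom.app (op T')).hom ?_
  show ULift.up (Additive.ofMul (m ≫ GmPts.ptOfUnit c)) = _
  rw [← GmPts.ptOfUnit_comp]
  rfl

theorem GmExt.qs_inc {T : Over X} (c : (Γ(T.left, ⊤))ˣ) : E.qs T (E.inc T c) = 0 :=
  congrArg (fun φ : CGrpSh2.Gm Scheme.fppfPrecoverage X ⟶ G => (φ.hom.app (op T)).hom _) E.zero

theorem GmExt.inc_injective (T : Over X) : Function.Injective (E.inc T) := by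
  intro c c' h
  haveI : Mono E.i := E.shortExact.mono_f
  have := BigSiteLib.FppfDesc.app_injective_of_mono E.i T h
  have h3 := (CGrpSh.sectEquiv Scheme.fppfPrecoverage (Red.Gm X) T).symm.injective this
  have h4 : GmPts.ptOfUnit c = GmPts.ptOfUnit c' := Additive.ofMul.injective h3
  exact (GmPts.equiv T).symm.injective h4

theorem GmExt.exists_inc {T : Over X} (x : E.F.obj.obj (op T)) (hx : E.qs T x = 0) :
    ∃ c, E.inc T c = x := by
  haveI : Mono E.i := E.shortExact.mono_f
  obtain ⟨k, hk⟩ := BigSiteLib.FppfDesc.exists_kernel_section E.q x hx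
  let einv : kernel E.q ⟶ CGrpSh2.Gm Scheme.fppfPrecoverage X :=
    E.shortExact.fIsKernel.lift (KernelFork.ofι (kernel.ι E.q) (kernel.condition E.q))
  refine ⟨GmPts.unitOfPt ((einv.hom.app (op T)).hom k).down.toMul, ?_⟩
  rw [GmExt.inc, GmPts.ptOfUnit_unitOfPt]
  refine Eq.trans ?_ hk
  show (E.i.hom.app (op T)).hom ((einv.hom.app (op T)).hom k) = _
  have h1 : einv ≫ E.i = kernel.ι E.q := Fork.IsLimit.lift_ι E.shortExact.fIsKernel
  exact congrArg (fun φ => (φ.hom.app (op T)).hom k) h1

section Affine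

variable {A : Type u} [CommRing A] (c : Spec (CommRingCat.of A) ⟶ X)

/-- An algebra as an affine object. -/
noncomputable abbrev Ch (B : Type u) [CommRing B] [Algebra A B] : Over X :=
  Over.mk (Spec.map (CommRingCat.ofHom (algebraMap A B)) ≫ c)

/-- An algebra map as a morphism of affine objects. -/
noncomputable def chMap {B B' : Type u} [CommRing B] [Algebra A B] [CommRing B'] [Algebra A B'] (f : B →ₐ[A] B') :
    Ch c B' ⟶ Ch c B :=
  Over.homMk (Spec.map (CommRingCat.ofHom f.toRingHom)) (by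
    show Spec.map (CommRingCat.ofHom f.toRingHom) ≫ Spec.map (CommRingCat.ofHom (algebraMap A B)) ≫ c = _
    rw [← Category.assoc, ← Spec.map_comp, ← CommRingCat.ofHom_comp,
      show f.toRingHom.comp (algebraMap A B) = algebraMap A B' from f.comp_algebraMap]
    rfl)

/-- The structure morphism of an affine object. -/
noncomputable def chBase (B : Type u) [CommRing B] [Algebra A B] : Ch c B ⟶ Over.mk c :=
  Over.homMk (Spec.map (CommRingCat.ofHom (algebraMap A B))) rfl

theorem chMap_base {B B' : Type u} [CommRing B] [Algebra A B] [CommRing B'] [Algebra A B'] (f : B →ₐ[A] B') :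
    chMap c f ≫ chBase c B = chBase c B' := by
  apply Over.OverMorphism.ext
  show Spec.map _ ≫ Spec.map _ = Spec.map _
  rw [← Spec.map_comp, ← CommRingCat.ofHom_comp,
    show f.toRingHom.comp (algebraMap A B) = algebraMap A B' from f.comp_algebraMap]

theorem chMap_comp {B B' B'' : Type u} [CommRing B] [Algebra A B] [CommRing B'] [Algebra A B'] [CommRing B'']
    [Algebra A B''] (f : B →ₐ[A] B') (g : B' →ₐ[A] B'') : chMap c g ≫ chMap c f = chMap c (g.comp f) := by
  apply Over.OverMorphism.ext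
  show Spec.map _ ≫ Spec.map _ = Spec.map _
  rw [← Spec.map_comp, ← CommRingCat.ofHom_comp]
  rfl

/-- The units of an algebra as units of the affine object. -/
noncomputable def chUnit (B : Type u) [CommRing B] [Algebra A B] : Bˣ ≃* (Γ((Ch c B).left, ⊤))ˣ :=
  Units.mapEquiv (Scheme.ΓSpecIso (CommRingCat.of B)).commRingCatIsoToRingEquiv.symm.toMulEquiv

theorem chUnit_natural {B B' : Type u} [CommRing B] [Algebra A B] [CommRing B'] [Algebra A B'] (f : B →ₐ[A] B')
    (b : Bˣ) : Units.map (chMap c f).left.appTop.hom.toMonoidHom (chUnit c B b) =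
      chUnit c B' (Units.map f.toRingHom.toMonoidHom b) := by
  apply Units.ext
  exact (congrArg (fun m => m.hom (b : B)) (Scheme.ΓSpecIso_inv_naturality (CommRingCat.ofHom f.toRingHom))).symm

theorem GmExt.inc_chMap {B B' : Type u} [CommRing B] [Algebra A B] [CommRing B'] [Algebra A B'] (f : B →ₐ[A] B')
    (b : Bˣ) : rA E.F (chMap c f) (E.inc _ (chUnit c B b)) = E.inc _ (chUnit c B' (Units.map f.toRingHom.toMonoidHom b)) := by
  rw [E.inc_res, chUnit_natural]

/-- A morphism to an affine object from an algebra map to the functions. -/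
theorem exists_toCh {W : Over X} (B : Type u) [CommRing B] [Algebra A B] (w : W ⟶ Over.mk c) :
    ∀ (φ : B →+* Γ(W.left, ⊤)), φ.comp (algebraMap A B) = w.left.appTop.hom.comp (Scheme.ΓSpecIso (CommRingCat.of A)).inv.hom →
      ∃ m : W ⟶ Ch c B, m ≫ chBase c B = w ∧ m.left.appTop.hom.comp (Scheme.ΓSpecIso (CommRingCat.of B)).inv.hom = φ := by
  intro φ hφ
  let m₀ : W.left ⟶ Spec (CommRingCat.of B) := W.left.toSpecΓ ≫ Spec.map (CommRingCat.ofHom φ)
  have hm₀ : (Scheme.ΓSpecIso (CommRingCat.of B)).inv ≫ m₀.appTop = CommRingCat.ofHom φ := by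
    rw [show m₀.appTop = (Spec.map (CommRingCat.ofHom φ)).appTop ≫ W.left.toSpecΓ.appTop from Scheme.Hom.comp_appTop _ _,
      ← Category.assoc, ← Scheme.ΓSpecIso_inv_naturality, Category.assoc, Scheme.toSpecΓ_appTop]
    erw [Iso.inv_hom_id, Category.comp_id]
  have hb : m₀ ≫ Spec.map (CommRingCat.ofHom (algebraMap A B)) = w.left := by
    apply ext_of_isAffine
    rw [← cancel_epi (Scheme.ΓSpecIso (CommRingCat.of A)).inv, Scheme.Hom.comp_appTop,
      ← Category.assoc, ← Scheme.ΓSpecIso_inv_naturality, Category.assoc, hm₀]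
    apply CommRingCat.hom_ext
    exact hφ
  exact ⟨Over.homMk m₀ (by
    show m₀ ≫ Spec.map _ ≫ c = _
    rw [← Category.assoc, hb]; exact Over.w w), Over.OverMorphism.ext hb, congrArg CommRingCat.Hom.hom hm₀⟩

theorem toCh_ext {W : Over X} {B : Type u} [CommRing B] [Algebra A B] {m m' : W ⟶ Ch c B}
    (h : m.left.appTop.hom.comp (Scheme.ΓSpecIso (CommRingCat.of B)).inv.hom =
      m'.left.appTop.hom.comp (Scheme.ΓSpecIso (CommRingCat.of B)).inv.hom) : m = m' := by
  apply Over.OverMorphism.ext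
  haveI : IsAffine (Ch c B).left := inferInstanceAs (IsAffine (Spec (CommRingCat.of B)))
  apply ext_of_isAffine
  rw [← cancel_epi (Scheme.ΓSpecIso (CommRingCat.of B)).inv]
  exact CommRingCat.hom_ext h

theorem rh_comp {W : Over X} {B B' : Type u} [CommRing B] [Algebra A B] [CommRing B'] [Algebra A B']
    (m : W ⟶ Ch c B') (f : B →ₐ[A] B') :
    (m ≫ chMap c f).left.appTop.hom.comp (Scheme.ΓSpecIso (CommRingCat.of B)).inv.hom =
      (m.left.appTop.hom.comp (Scheme.ΓSpecIso (CommRingCat.of B')).inv.hom).comp f.toRingHom := by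
  refine RingHom.ext fun b => ?_
  exact congrArg (fun z => m.left.appTop.hom z)
    (congrArg (fun k => k.hom b) (Scheme.ΓSpecIso_inv_naturality (CommRingCat.ofHom f.toRingHom))).symm

/-- A section over a finite product cover whose two pullbacks agree descends, over any algebra. -/
theorem exists_descend {J : Type u} [Fintype J] (A' : J → Type u) [∀ j, CommRing (A' j)] [∀ j, Algebra A (A' j)]
    (hfp : ∀ j, Flat (Spec.map (CommRingCat.ofHom (algebraMap A (A' j)))) ∧
      LocallyOfFinitePresentation (Spec.map (CommRingCat.ofHom (algebraMap A (A' j)))))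
    (hs : ∀ x, ∃ j, x ∈ Set.range (Spec.map (CommRingCat.ofHom (algebraMap A (A' j)))))
    (C : Type u) [CommRing C] [Algebra A C] (F : Fp X) (y : F.obj.obj (op (Ch c (C ⊗[A] (∀ j, A' j)))))
    (hy : rA F (chMap c (B' := C ⊗[A] ((∀ j, A' j) ⊗[A] (∀ j, A' j))) (Algebra.TensorProduct.map (AlgHom.id A C) (Algebra.TensorProduct.includeLeft))) y =
      rA F (chMap c (B' := C ⊗[A] ((∀ j, A' j) ⊗[A] (∀ j, A' j))) (Algebra.TensorProduct.map (AlgHom.id A C) (Algebra.TensorProduct.includeRight
        (R := A) (A := ∀ j, A' j) (B := ∀ j, A' j)))) y) :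
    ∃ y₀ : F.obj.obj (op (Ch c C)), ∀ j,
      rA F (chMap c (Algebra.TensorProduct.includeLeft : C →ₐ[A] C ⊗[A] A' j)) y₀ =
        rA F (chMap c (Algebra.TensorProduct.map (AlgHom.id A C) (Pi.evalAlgHom A A' j))) y := by
  classical
  let B := ∀ j, A' j
  let Z : J → Over X := fun j => Ch c (C ⊗[A] A' j)
  let g : ∀ j, Z j ⟶ Ch c C := fun j => chMap c Algebra.TensorProduct.includeLeft
  have hsq : ∀ j, IsPullback (g j).left (Spec.map (CommRingCat.ofHom (Algebra.TensorProduct.includeRight :
      A' j →ₐ[A] C ⊗[A] A' j).toRingHom)) (Spec.map (CommRingCat.ofHom (algebraMap A C)))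
      (Spec.map (CommRingCat.ofHom (algebraMap A (A' j)))) := fun j => isPullback_SpecMap_of_isPushout _ _ _ _
    (CommRingCat.isPushout_tensorProduct A C (A' j))
  have hcov : Sieve.generate (Presieve.ofArrows (fun j => (Z j).left) fun j => (g j).left) ∈
      Scheme.fppfPrecoverage.toGrothendieck (Ch c C).left := by
    refine Precoverage.generate_mem_toGrothendieck (J := Scheme.precoverage (Pfppf : MorphismProperty Scheme.{u})) ?_
    rw [Scheme.ofArrows_mem_precoverage_iff]
    refine ⟨fun x => ?_, fun j => ⟨MorphismProperty.of_isPullback (hsq j).flip (hfp j).1,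
      MorphismProperty.of_isPullback (hsq j).flip (hfp j).2⟩⟩
    obtain ⟨j, b, hb⟩ := hs ((Spec.map (CommRingCat.ofHom (algebraMap A C))) x)
    obtain ⟨z, hz, -⟩ := Scheme.exists_preimage_of_isPullback (hsq j) x b hb.symm
    exact ⟨j, z, hz⟩
  obtain ⟨y₀, hy₀⟩ := glueA F Z g hcov
    (fun j => rA F (chMap c (Algebra.TensorProduct.map (AlgHom.id A C) (Pi.evalAlgHom A A' j))) y)
    fun j k W a b hab => by
    let P := a ≫ chMap c (Algebra.TensorProduct.map (AlgHom.id A C) (Pi.evalAlgHom A A' j))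
    let Q := b ≫ chMap c (Algebra.TensorProduct.map (AlgHom.id A C) (Pi.evalAlgHom A A' k))
    rw [rA_comp, rA_comp]
    show rA F P y = rA F Q y
    let φ := P.left.appTop.hom.comp (Scheme.ΓSpecIso (CommRingCat.of (C ⊗[A] B))).inv.hom
    let ψ := Q.left.appTop.hom.comp (Scheme.ΓSpecIso (CommRingCat.of (C ⊗[A] B))).inv.hom
    let w := a ≫ g j ≫ chBase c C
    have hC : φ.comp (Algebra.TensorProduct.includeLeft : C →ₐ[A] C ⊗[A] B).toRingHom =
        ψ.comp (Algebra.TensorProduct.includeLeft : C →ₐ[A] C ⊗[A] B).toRingHom := by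
      rw [← rh_comp, ← rh_comp]
      congr 3
      simp only [P, Q, Category.assoc, chMap_comp, Algebra.TensorProduct.map_comp_includeLeft, AlgHom.comp_id]
      exact congrArg (fun t => t.left) hab
    letI : Algebra A Γ(W.left, ⊤) :=
      (w.left.appTop.hom.comp (Scheme.ΓSpecIso (CommRingCat.of A)).inv.hom).toAlgebra
    have halg : φ.comp (algebraMap A (C ⊗[A] B)) = algebraMap A Γ(W.left, ⊤) := by
      have h1 : P ≫ chBase c (C ⊗[A] B) = w := by
        simp only [P, w, g, Category.assoc]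
        erw [chMap_base, chMap_base]
      rw [RingHom.algebraMap_toAlgebra, ← h1]
      refine RingHom.ext fun r => ?_
      exact congrArg (fun z => P.left.appTop.hom z)
        (congrArg (fun k => k.hom r) (Scheme.ΓSpecIso_inv_naturality (CommRingCat.ofHom (algebraMap A (C ⊗[A] B)))))
    let φC : C →ₐ[A] Γ(W.left, ⊤) :=
      ⟨φ.comp (Algebra.TensorProduct.includeLeft : C →ₐ[A] C ⊗[A] B).toRingHom, fun r => by
        show φ ((Algebra.TensorProduct.includeLeft : C →ₐ[A] C ⊗[A] B) (algebraMap A C r)) = _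
        rw [AlgHom.commutes]; exact RingHom.congr_fun halg r⟩
    let φB : B →ₐ[A] Γ(W.left, ⊤) :=
      ⟨φ.comp (Algebra.TensorProduct.includeRight : B →ₐ[A] C ⊗[A] B).toRingHom, fun r => by
        show φ ((Algebra.TensorProduct.includeRight : B →ₐ[A] C ⊗[A] B) (algebraMap A B r)) = _
        rw [AlgHom.commutes]; exact RingHom.congr_fun halg r⟩
    let ψB : B →ₐ[A] Γ(W.left, ⊤) :=
      ⟨ψ.comp (Algebra.TensorProduct.includeRight : B →ₐ[A] C ⊗[A] B).toRingHom, fun r => by
        show ψ ((Algebra.TensorProduct.includeRight : B →ₐ[A] C ⊗[A] B) (algebraMap A B r)) = _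
        rw [AlgHom.commutes, show algebraMap A (C ⊗[A] B) r =
          (Algebra.TensorProduct.includeLeft : C →ₐ[A] C ⊗[A] B) (algebraMap A C r) from (AlgHom.commutes _ r).symm]
        exact (RingHom.congr_fun hC.symm _).trans (φC.commutes r)⟩
    let big : C ⊗[A] (B ⊗[A] B) →ₐ[A] Γ(W.left, ⊤) :=
      Algebra.TensorProduct.lift φC (Algebra.TensorProduct.lift φB ψB fun _ _ => Commute.all _ _)
        fun _ _ => Commute.all _ _
    obtain ⟨m, -, hm⟩ := exists_toCh c (C ⊗[A] (B ⊗[A] B)) w big.toRingHom big.comp_algebraMap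
    have hP : m ≫ chMap c (B' := C ⊗[A] (B ⊗[A] B)) (Algebra.TensorProduct.map (AlgHom.id A C) (Algebra.TensorProduct.includeLeft)) = P := by
      apply toCh_ext
      rw [rh_comp, hm]
      show _ = φ
      apply Algebra.TensorProduct.ringHom_ext
      · refine RingHom.ext fun x => ?_
        show big (x ⊗ₜ[A] ((1 : B) ⊗ₜ[A] (1 : B))) = φ (x ⊗ₜ[A] 1)
        simp [big, φC]
      · refine RingHom.ext fun x => ?_
        show big ((1 : C) ⊗ₜ[A] (x ⊗ₜ[A] (1 : B))) = φ (1 ⊗ₜ[A] x)
        simp [big, φB]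
    have hQ : m ≫ chMap c (B' := C ⊗[A] (B ⊗[A] B)) (Algebra.TensorProduct.map (AlgHom.id A C) (Algebra.TensorProduct.includeRight)) = Q := by
      apply toCh_ext
      rw [rh_comp, hm]
      show _ = ψ
      apply Algebra.TensorProduct.ringHom_ext
      · refine RingHom.ext fun x => ?_
        show big (x ⊗ₜ[A] ((1 : B) ⊗ₜ[A] (1 : B))) = ψ (x ⊗ₜ[A] 1)
        rw [show ψ (x ⊗ₜ[A] 1) = φ (x ⊗ₜ[A] 1) from RingHom.congr_fun hC.symm x]
        simp [big, φC]
      · refine RingHom.ext fun x => ?_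
        show big ((1 : C) ⊗ₜ[A] ((1 : B) ⊗ₜ[A] x)) = ψ (1 ⊗ₜ[A] x)
        simp [big, ψB]
    rw [← hP, ← hQ, ← rA_comp, ← rA_comp, hy]
  exact ⟨y₀, hy₀⟩

/-- A lift over a finite product cover with its transition unit, and descent of corrected lifts. -/
theorem exists_cocycle (z : G.obj.obj (op (Over.mk c))) :
    ∃ (B : Type u) (_ : CommRing B) (_ : Algebra A B) (_ : Module.FaithfullyFlat A B) (g h : B ⊗[A] B)
      (y : E.F.obj.obj (op (Ch c B))), IsCoc g h ∧ E.qs _ y = rA G (chBase c B) z ∧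
      (∀ (p : ℕ), p • z = 0 → ∃ b : B, IsUnit b ∧ b ∈ LineDesc.invSet (g ^ p)) ∧
      ∀ (C : Type u) [CommRing C] [Algebra A C] (t : C ⊗[A] B), IsUnit t →
        Algebra.TensorProduct.includeRight (R := A) (A := C) g *
            Algebra.TensorProduct.map (AlgHom.id A C) Algebra.TensorProduct.includeLeft t =
          Algebra.TensorProduct.map (AlgHom.id A C) Algebra.TensorProduct.includeRight t →
        ∃ y₀ : E.F.obj.obj (op (Ch c C)), E.qs _ y₀ = rA G (chBase c C) z := by
  classical
  haveI : Epi E.q := E.shortExact.epi_g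
  haveI : Sheaf.IsLocallySurjective E.q := (Sheaf.isLocallySurjective_iff_epi' AddCommGrpCat.{u + 1} E.q).2 inferInstance
  have hσ : Presheaf.imageSieve E.q.hom z ∈ QuotSh.J Scheme.fppfPrecoverage X (Over.mk c) :=
    Presheaf.imageSieve_mem (QuotSh.J Scheme.fppfPrecoverage X) E.q.hom z
  obtain ⟨J, _, A', φ, hP, hs, hJ⟩ := exists_refine (P := Pfppf) localProp_fppf c _ hσ
  letI : ∀ j, Algebra A (A' j) := fun j => (φ j).hom.toAlgebra
  have hφ : ∀ j, Spec.map (CommRingCat.ofHom (algebraMap A (A' j))) = Spec.map (φ j) := fun j => by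
    rw [RingHom.algebraMap_toAlgebra]; rfl
  have hfp : ∀ j, Flat (Spec.map (CommRingCat.ofHom (algebraMap A (A' j)))) ∧
      LocallyOfFinitePresentation (Spec.map (CommRingCat.ofHom (algebraMap A (A' j)))) := fun j => by
    rw [hφ]; exact hP j
  have hs' : ∀ x, ∃ j, x ∈ Set.range (Spec.map (CommRingCat.ofHom (algebraMap A (A' j)))) := fun x => by
    obtain ⟨j, hj⟩ := hs x
    exact ⟨j, by rw [hφ]; exact hj⟩
  let B : Type u := ∀ j, (A' j : Type u)
  haveI hff : Module.FaithfullyFlat A B := faithfullyFlat_of_cover (P := Pfppf) pfppf_le_flat A' φ hP hs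
  choose x hx using fun j => hJ j
  let κ : ∀ j, Ch c (A' j : Type u) ⟶ Over.mk (Spec.map (φ j) ≫ c) := fun j =>
    Over.homMk (𝟙 _) (by show 𝟙 _ ≫ Spec.map (φ j) ≫ c = _ ≫ c; rw [Category.id_comp, hφ])
  have hx' : ∀ j, E.qs _ (rA E.F (κ j) (x j)) = rA G (chBase c (A' j : Type u)) z := fun j => by
    rw [E.qs_res]
    refine (congrArg (rA G (κ j)) (hx j)).trans ?_
    rw [rA_comp]
    refine congrArg (fun m => rA G m z) (Over.OverMorphism.ext ?_)
    show 𝟙 _ ≫ Spec.map (φ j) = _
    rw [Category.id_comp]; exact (hφ j).symm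
  -- the pieces cover the product disjointly
  let pj : ∀ j, Ch c (A' j : Type u) ⟶ Ch c B := fun j => chMap c (Pi.evalAlgHom A (fun j => (A' j : Type u)) j)
  have hopen : ∀ j, IsOpenImmersion (pj j).left := fun j => by
    show IsOpenImmersion (Spec.map (CommRingCat.ofHom (Pi.evalRingHom (fun j => (A' j : Type u)) j)))
    infer_instance
  have hcovB : Sieve.generate (Presieve.ofArrows (fun j => (Ch c (A' j : Type u)).left) fun j => (pj j).left) ∈
      Scheme.fppfPrecoverage.toGrothendieck (Ch c B).left := by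
    refine Precoverage.generate_mem_toGrothendieck (J := Scheme.precoverage (Pfppf : MorphismProperty Scheme.{u})) ?_
    rw [Scheme.ofArrows_mem_precoverage_iff]
    refine ⟨fun p => ?_, fun j => by haveI := hopen j; exact ⟨inferInstance, inferInstance⟩⟩
    obtain ⟨⟨j, q⟩, hq⟩ := (PrimeSpectrum.sigmaToPi_bijective (fun j => (A' j : Type u))).2 p
    exact ⟨j, q, hq⟩
  obtain ⟨y, hy⟩ := glueA E.F _ pj hcovB (fun j => rA E.F (κ j) (x j)) fun j k W a b hab => by
    by_cases hjk : j = k
    · subst hjk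
      haveI := hopen j
      rw [Over.OverMorphism.ext ((cancel_mono (pj j).left).1 (congrArg CommaMorphism.left hab))]
    · haveI : IsEmpty W.left := ⟨fun p => hjk (congrArg Sigma.fst
        ((PrimeSpectrum.sigmaToPi_bijective (fun j => (A' j : Type u))).1 (a₁ := ⟨j, a.left p⟩) (a₂ := ⟨k, b.left p⟩)
          (congrArg (fun m : W ⟶ Ch c B => m.left p) hab)))⟩
      exact eq_of_isEmpty E.F _ _
  have hqy : E.qs _ y = rA G (chBase c B) z := eq_of_cover G _ pj hcovB _ _ fun j => by
    rw [← E.qs_res, hy, hx', rA_comp, chMap_base]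
  -- the transition unit
  let l : B →ₐ[A] B ⊗[A] B := Algebra.TensorProduct.includeLeft
  let r : B →ₐ[A] B ⊗[A] B := Algebra.TensorProduct.includeRight
  obtain ⟨γ, hγ⟩ := E.exists_inc (rA E.F (chMap c r) y - rA E.F (chMap c l) y) (by
    rw [map_sub, E.qs_res, E.qs_res, hqy, rA_comp, rA_comp, chMap_base, chMap_base, sub_self])
  let gu : (B ⊗[A] B)ˣ := (chUnit c (B ⊗[A] B)).symm γ
  have hgu : E.inc _ (chUnit c (B ⊗[A] B) gu) = rA E.F (chMap c r) y - rA E.F (chMap c l) y := by
    rw [MulEquiv.apply_symm_apply, hγ]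
  have key : ∀ (D : Type u) [CommRing D] [Algebra A D] (f : B ⊗[A] B →ₐ[A] D),
      E.inc _ (chUnit c D (Units.map f.toRingHom.toMonoidHom gu)) =
        rA E.F (chMap c (f.comp r)) y - rA E.F (chMap c (f.comp l)) y := by
    intro D _ _ f
    rw [← E.inc_chMap, hgu, map_sub, rA_comp, rA_comp, chMap_comp, chMap_comp]
  have hinj : ∀ (D : Type u) [CommRing D] [Algebra A D],
      Function.Injective (fun d : Dˣ => E.inc _ (chUnit c D d)) := fun D _ _ a b h =>
    (chUnit c D).injective (E.inc_injective _ h)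
  refine ⟨B, inferInstance, inferInstance, hff, gu, ↑(gu⁻¹), y, ⟨gu.mul_inv, ?_, ?_⟩, hqy, ?_, ?_⟩
  · have h1 : Units.map (Algebra.TensorProduct.lmul' A (S := B)).toRingHom.toMonoidHom gu = 1 := by
      apply hinj B
      show E.inc _ _ = E.inc _ _
      rw [key, map_one, E.inc_one, show (Algebra.TensorProduct.lmul' A (S := B)).comp r =
        (Algebra.TensorProduct.lmul' A (S := B)).comp l from AlgHom.ext fun b => by simp [l, r], sub_self]
    exact congrArg Units.val h1
  · have h1 : Units.map (LineDesc.m23 A B).toRingHom.toMonoidHom gu * Units.map (LineDesc.m12 A B).toRingHom.toMonoidHom gu =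
        Units.map (LineDesc.m13 A B).toRingHom.toMonoidHom gu := by
      apply hinj
      show E.inc _ _ = E.inc _ _
      rw [map_mul, E.inc_mul, key, key, key,
        show (LineDesc.m12 A B).comp r = (LineDesc.m23 A B).comp l from AlgHom.ext fun b => by simp [l, r],
        show (LineDesc.m13 A B).comp r = (LineDesc.m23 A B).comp r from AlgHom.ext fun b => by simp [r],
        show (LineDesc.m13 A B).comp l = (LineDesc.m12 A B).comp l from AlgHom.ext fun b => by simp [l]]
      abel
    exact congrArg Units.val h1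
  · intro p hp
    obtain ⟨β, hβ⟩ := E.exists_inc (p • y) (by rw [map_nsmul, hqy, ← map_nsmul, hp, map_zero])
    let b : Bˣ := (chUnit c B).symm β
    have hb : E.inc _ (chUnit c B b) = p • y := by rw [MulEquiv.apply_symm_apply, hβ]
    refine ⟨b, b.isUnit, ?_⟩
    have h1 : gu ^ p * Units.map l.toRingHom.toMonoidHom b = Units.map r.toRingHom.toMonoidHom b := by
      apply hinj
      show E.inc _ _ = E.inc _ _
      rw [map_mul, E.inc_mul, ← E.inc_chMap, ← E.inc_chMap, hb, map_pow, E.inc_pow, hgu, map_nsmul, map_nsmul,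
        nsmul_sub, sub_add_cancel]
    exact congrArg Units.val h1
  · intro C _ _ t ht hgt
    obtain ⟨τ, rfl⟩ := ht
    let ρ : B →ₐ[A] C ⊗[A] B := Algebra.TensorProduct.includeRight
    let y' := rA E.F (chMap c ρ) y - E.inc _ (chUnit c (C ⊗[A] B) τ)
    let L : C ⊗[A] B →ₐ[A] C ⊗[A] (B ⊗[A] B) := Algebra.TensorProduct.map (AlgHom.id A C) l
    let R : C ⊗[A] B →ₐ[A] C ⊗[A] (B ⊗[A] B) := Algebra.TensorProduct.map (AlgHom.id A C) r
    let I : B ⊗[A] B →ₐ[A] C ⊗[A] (B ⊗[A] B) := Algebra.TensorProduct.includeRight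
    have hu : Units.map I.toRingHom.toMonoidHom gu * Units.map L.toRingHom.toMonoidHom τ =
        Units.map R.toRingHom.toMonoidHom τ := Units.ext hgt
    have hcompat : rA E.F (chMap c (B' := C ⊗[A] (B ⊗[A] B)) L) y' = rA E.F (chMap c (B' := C ⊗[A] (B ⊗[A] B)) R) y' := by
      have h1 := congrArg (fun d => E.inc _ (chUnit c (C ⊗[A] (B ⊗[A] B)) d)) hu
      simp only [map_mul, E.inc_mul, key, ← E.inc_chMap] at h1
      simp only [y', map_sub, rA_comp, chMap_comp]
      rw [show L.comp ρ = I.comp l from AlgHom.ext fun b => by simp [L, I, ρ, l],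
        show R.comp ρ = I.comp r from AlgHom.ext fun b => by simp [R, I, ρ, r], ← h1]
      abel
    obtain ⟨y₀, hy₀⟩ := exists_descend c (fun j => (A' j : Type u)) hfp hs' C E.F y' hcompat
    refine ⟨y₀, ?_⟩
    let Z : J → Over X := fun j => Ch c (C ⊗[A] (A' j : Type u))
    refine eq_of_cover G Z (fun j => chMap c Algebra.TensorProduct.includeLeft) ?_ _ _ fun j => ?_
    · refine Precoverage.generate_mem_toGrothendieck (J := Scheme.precoverage (Pfppf : MorphismProperty Scheme.{u})) ?_
      rw [Scheme.ofArrows_mem_precoverage_iff]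
      have hsq : ∀ j, IsPullback (chMap c (Algebra.TensorProduct.includeLeft : C →ₐ[A] C ⊗[A] (A' j : Type u))).left
          (Spec.map (CommRingCat.ofHom (Algebra.TensorProduct.includeRight :
            (A' j : Type u) →ₐ[A] C ⊗[A] (A' j : Type u)).toRingHom)) (Spec.map (CommRingCat.ofHom (algebraMap A C)))
          (Spec.map (CommRingCat.ofHom (algebraMap A (A' j : Type u)))) := fun j =>
        isPullback_SpecMap_of_isPushout _ _ _ _ (CommRingCat.isPushout_tensorProduct A C (A' j : Type u))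
      refine ⟨fun p => ?_, fun j => ⟨MorphismProperty.of_isPullback (hsq j).flip (hfp j).1,
        MorphismProperty.of_isPullback (hsq j).flip (hfp j).2⟩⟩
      obtain ⟨j, b, hb⟩ := hs' ((Spec.map (CommRingCat.ofHom (algebraMap A C))) p)
      obtain ⟨q, hq, -⟩ := Scheme.exists_preimage_of_isPullback (hsq j) p b hb.symm
      exact ⟨j, q, hq⟩
    · have hy'q : E.qs _ y' = rA G (chBase c (C ⊗[A] B)) z := by
        simp only [y']
        rw [map_sub, E.qs_inc, sub_zero, E.qs_res, hqy, rA_comp, chMap_base]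
      rw [← E.qs_res, hy₀, E.qs_res]
      refine (congrArg _ hy'q).trans ?_
      rw [rA_comp, rA_comp]
      erw [chMap_base, chMap_base]

/-- A section of the quotient lifts Zariski locally. -/
theorem exists_lift_local (z : G.obj.obj (op (Over.mk c))) :
    ∃ (n : ℕ) (f : Fin n → A), ∑ l, f l = 1 ∧ ∀ l, ∃ y : E.F.obj.obj (op (Ch c (Localization.Away (f l)))),
      E.qs _ y = rA G (chBase c (Localization.Away (f l))) z := by
  obtain ⟨B, _, _, _, g, h, y, hg, -, -, hdesc⟩ := exists_cocycle E c z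
  obtain ⟨n, s, w, f, hs, hw, hsw, hf⟩ := exists_pairs hg
  refine ⟨n, f, hf, fun l => hdesc (Localization.Away (f l)) (1 ⊗ₜ[A] s l) ?_ ?_⟩
  · refine isUnit_of_mul_isUnit_left (y := (1 : Localization.Away (f l)) ⊗ₜ[A] w l) ?_
    rw [Algebra.TensorProduct.tmul_mul_tmul, one_mul, ← hsw, Algebra.algebraMap_eq_smul_one,
      ← TensorProduct.smul_tmul, ← Algebra.algebraMap_eq_smul_one]
    exact (IsLocalization.Away.algebraMap_isUnit (f l)).map
      (Algebra.TensorProduct.includeLeft : _ →ₐ[A] Localization.Away (f l) ⊗[A] B)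
  · simp only [Algebra.TensorProduct.includeRight_apply, Algebra.TensorProduct.map_tmul, AlgHom.coe_id, id,
      Algebra.TensorProduct.tmul_mul_tmul, one_mul, Algebra.TensorProduct.includeLeft_apply]
    exact congrArg _ (hs l)

/-- Over a good ring a section of the quotient killed by the characteristic lifts. -/
theorem exists_lift_good (p : ℕ) [Fact p.Prime] [CharP A p] (hA : Good A p)
    (hG : ∀ (T : Over X) (v : G.obj.obj (op T)), p • v = 0) (z : G.obj.obj (op (Over.mk c))) :
    ∃ y : E.F.obj.obj (op (Over.mk c)), E.qs _ y = z := by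
  obtain ⟨B, _, _, _, g, h, y, hg, -, hb, hdesc⟩ := exists_cocycle E c z
  obtain ⟨b, hbu, hbi⟩ := hb p (hG _ z)
  obtain ⟨t, htu, hti⟩ := exists_unit p hA hg hbu hbi
  obtain ⟨y₀, hy₀⟩ := hdesc A (1 ⊗ₜ[A] t) (htu.map (Algebra.TensorProduct.includeRight : B →ₐ[A] A ⊗[A] B)) (by
    simp only [Algebra.TensorProduct.includeRight_apply, Algebra.TensorProduct.map_tmul, AlgHom.coe_id, id,
      Algebra.TensorProduct.tmul_mul_tmul, one_mul, Algebra.TensorProduct.includeLeft_apply]
    exact congrArg _ hti)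
  let e : Over.mk c ⟶ Ch c A := Over.homMk (𝟙 _) (by
    show 𝟙 _ ≫ Spec.map _ ≫ c = c
    rw [Category.id_comp, Algebra.algebraMap_self, CommRingCat.ofHom_id, Spec.map_id, Category.id_comp])
  refine ⟨rA E.F e y₀, ?_⟩
  rw [E.qs_res, hy₀, rA_comp]
  refine (congrArg (fun m => rA G m z) (Over.OverMorphism.ext ?_)).trans (rA_id G z)
  show 𝟙 _ ≫ Spec.map _ = 𝟙 _
  rw [Category.id_comp, Algebra.algebraMap_self, CommRingCat.ofHom_id, Spec.map_id]

end Affine

end Groth.Agent.GaExt
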