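import Groth.Agent.GaExt.Sect
import Groth.Agent.GrpSchLib.GaPts
import Mathlib.Algebra.Homology.DerivedCategory.Ext.ExtClass

/-!
# An extension of a sheaf of points with an additive universal lift splits
-/

set_option autoImplicit false
set_option backward.isDefEq.respectTransparency false
set_option linter.style.haveILetI false

universe u

open CategoryTheory Limits AlgebraicGeometry Opposite MonoidalCategory CartesianMonoidalCategory
open scoped MonObj

namespace Groth.Agent.GaExt

open Adeq2Lib Adeq2Lib.AffVan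

variable {X : Scheme.{u}} {P : Over X} [GrpObj P] [IsCommMonObj P]

/-- A point as a section of the sheaf of points. -/
noncomputable abbrev ptSec {T : Over X} (a : T ⟶ P) : (CGrpSh.pts Scheme.fppfPrecoverage P).obj.obj (op T) :=
  ULift.up (Additive.ofMul a)

theorem ptSec_res {T T' : Over X} (m : T' ⟶ T) (a : T ⟶ P) :
    rA (CGrpSh.pts Scheme.fppfPrecoverage P) m (ptSec a) = ptSec (m ≫ a) := rfl

theorem ptSec_mul {T : Over X} (a b : T ⟶ P) : ptSec (a * b) = ptSec a + ptSec b := rfl

theorem ptSec_one (T : Over X) : ptSec (1 : T ⟶ P) = 0 := rfl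

variable (E : GmExt (CGrpSh.pts Scheme.fppfPrecoverage P))

/-- The lift of a point attached to a lift of the universal point. -/
noncomputable def sT (y : E.F.obj.obj (op P)) {T : Over X} (a : T ⟶ P) : E.F.obj.obj (op T) := rA E.F a y

theorem sT_res (y : E.F.obj.obj (op P)) {T T' : Over X} (m : T' ⟶ T) (a : T ⟶ P) :
    rA E.F m (sT E y a) = sT E y (m ≫ a) := rA_comp E.F m a y

variable {y : E.F.obj.obj (op P)}

theorem qs_sT (hy : E.qs P y = ptSec (𝟙 P)) {T : Over X} (a : T ⟶ P) : E.qs T (sT E y a) = ptSec a := by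
  rw [sT, E.qs_res, hy, ptSec_res, Category.comp_id]

/-- The unit measuring the failure of additivity. -/
theorem exists_defect (hy : E.qs P y = ptSec (𝟙 P)) {T : Over X} (a b : T ⟶ P) :
    ∃ c, E.inc T c = sT E y a + sT E y b - sT E y (a * b) :=
  E.exists_inc _ (by rw [map_sub, map_add, qs_sT E hy, qs_sT E hy, qs_sT E hy, ptSec_mul, sub_self])

/-- A lift of the universal point can be normalised at the unit section. -/
theorem exists_normal (hy : E.qs P y = ptSec (𝟙 P)) :
    ∃ y' : E.F.obj.obj (op P), E.qs P y' = ptSec (𝟙 P) ∧ ∀ T : Over X, sT E y' (1 : T ⟶ P) = 0 := by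
  refine ⟨y - sT E y (1 : P ⟶ P), ?_, fun T => ?_⟩
  · rw [map_sub, hy, qs_sT E hy, ptSec_one, sub_zero]
  · show rA E.F (1 : T ⟶ P) (y - sT E y (1 : P ⟶ P)) = 0
    rw [map_sub, sT_res, MonObj.comp_one]
    exact sub_self _

/-- An extension with an additive lift of the universal point is split. -/
theorem extClass_eq_zero (hy : E.qs P y = ptSec (𝟙 P))
    (hadd : ∀ (T : Over X) (a b : T ⟶ P), sT E y (a * b) = sT E y a + sT E y b) :
    E.shortExact.extClass = 0 := by
  let s : CGrpSh.pts Scheme.fppfPrecoverage P ⟶ E.F :=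
    ⟨{ app := fun T => AddCommGrpCat.ofHom (AddMonoidHom.mk' (fun x => sT E y x.down.toMul) fun x x' => hadd _ _ _)
       naturality := fun T T' m => AddCommGrpCat.ext fun x => (sT_res E y m.unop x.down.toMul).symm }⟩
  have hs : s ≫ E.q = 𝟙 _ := Sheaf.hom_ext (NatTrans.ext (funext fun T => AddCommGrpCat.ext fun x =>
    qs_sT E hy x.down.toMul))
  have h := congrArg (fun t => (Abelian.Ext.mk₀ s).comp t (zero_add 1)) E.shortExact.comp_extClass
  simp only [Abelian.Ext.comp_zero, Abelian.Ext.mk₀_comp_mk₀_assoc] at h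
  rwa [hs, Abelian.Ext.mk₀_id_comp] at h

/-- Ext¹ of a group of points by the multiplicative group vanishes when every extension has an additive lift. -/
theorem subsingleton_extS
    (H : ∀ E : GmExt (CGrpSh.pts Scheme.fppfPrecoverage P), ∃ y, E.qs P y = ptSec (𝟙 P) ∧
      ∀ (T : Over X) (a b : T ⟶ P), sT E y (a * b) = sT E y a + sT E y b)
    (K : ∀ x : CGrpSh.ExtS Scheme.fppfPrecoverage P (Red.Gm X) 1,
      ∃ (F : Fp X) (i : CGrpSh2.Gm Scheme.fppfPrecoverage X ⟶ F) (q : F ⟶ CGrpSh.pts Scheme.fppfPrecoverage P)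
        (w : i ≫ q = 0) (hS : (ShortComplex.mk i q w).ShortExact), hS.extClass = x) :
    Subsingleton (CGrpSh.ExtS Scheme.fppfPrecoverage P (Red.Gm X) 1) := by
  refine subsingleton_of_forall_eq 0 fun x => ?_
  obtain ⟨F, i, q, w, hS, rfl⟩ := K x
  obtain ⟨y, hy, hadd⟩ := H ⟨F, i, q, w, hS⟩
  exact extClass_eq_zero ⟨F, i, q, w, hS⟩ hy hadd

end Groth.Agent.GaExt
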