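import Groth.Agent.GaExt.HomShH1
import Groth.Prelude.Def_CGrpSh2
import Mathlib.Algebra.Homology.DerivedCategory.Ext.ExactSequences

/-!
# Vanishing of the first cohomology of dual sheaves
-/

set_option autoImplicit false
set_option backward.isDefEq.respectTransparency false
set_option linter.style.haveILetI false

universe u

open CategoryTheory Limits AlgebraicGeometry

namespace Groth.Agent.GaExt

variable {S : Scheme.{u}}

/-- The first cohomology of a dual sheaf vanishes when there are no extensions by the multiplicative group. -/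
theorem subsingleton_H_dualSh (F : BigSite.Ab Scheme.fppfPrecoverage S)
    (h : Subsingleton (Abelian.Ext F (CGrpSh2.Gm Scheme.fppfPrecoverage S) 1)) :
    Subsingleton (BigSite.H Scheme.fppfPrecoverage S (CGrpSh2.dualSh Scheme.fppfPrecoverage F) 1) :=
  subsingleton_H_homSh Over.mkIdTerminal h

/-- Absence of extensions passes to extensions. -/
theorem subsingleton_ext_of_shortExact {T : ShortComplex (BigSite.Ab Scheme.fppfPrecoverage S)} (hT : T.ShortExact)
    (G : BigSite.Ab Scheme.fppfPrecoverage S) (n : ℕ) (h₁ : Subsingleton (Abelian.Ext T.X₁ G n))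
    (h₃ : Subsingleton (Abelian.Ext T.X₃ G n)) : Subsingleton (Abelian.Ext T.X₂ G n) := by
  refine subsingleton_of_forall_eq 0 fun x => ?_
  obtain ⟨x₃, rfl⟩ := Abelian.Ext.contravariant_sequence_exact₂ hT G x (h₁.elim _ _)
  rw [h₃.elim x₃ 0, Abelian.Ext.comp_zero]

end Groth.Agent.GaExt
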