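import Groth.Agent.GaExt.Sect
import Groth.Agent.H23.CocycleMod
import Groth.Agent.Adeq2Lib.PushMain
import Groth.Prelude.Def_Coh

/-!
# Zariski local lifts on a scheme with trivial Picard group glue
-/

set_option autoImplicit false
set_option backward.isDefEq.respectTransparency false
set_option linter.style.haveILetI false

universe u

open CategoryTheory Limits AlgebraicGeometry Opposite TopologicalSpace

namespace Groth.Agent.GaExt

open Adeq2Lib Adeq2Lib.AffVan AModX InvX H23

variable {X : Scheme.{u}} {G : Fp X} (E : GmExt G) (T : Over X)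

/-- An open of an object over the base. -/
noncomputable abbrev opn (W : T.left.Opens) : Over X := Over.mk (W.ι ≫ T.hom)

/-- Inclusion of opens. -/
noncomputable def opnLE {W W' : T.left.Opens} (h : W ≤ W') : opn T W ⟶ opn T W' :=
  Over.homMk (T.left.homOfLE h) (by show T.left.homOfLE h ≫ W'.ι ≫ T.hom = _; rw [Scheme.homOfLE_ι_assoc]; rfl)

/-- The inclusion of an open. -/
noncomputable def opnι (W : T.left.Opens) : opn T W ⟶ T := Over.homMk W.ι rfl

theorem opnLE_ι {W W' : T.left.Opens} (h : W ≤ W') : opnLE T h ≫ opnι T W' = opnι T W :=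
  Over.OverMorphism.ext (Scheme.homOfLE_ι _ h)

theorem opnLE_comp {W W' W'' : T.left.Opens} (h : W ≤ W') (h' : W' ≤ W'') :
    opnLE T h ≫ opnLE T h' = opnLE T (h.trans h') :=
  Over.OverMorphism.ext (Scheme.homOfLE_homOfLE _ h h')

/-- The units on an open as units of the object. -/
noncomputable def opnUnit (W : T.left.Opens) : (Γ(T.left, W))ˣ ≃* (Γ((opn T W).left, ⊤))ˣ :=
  Units.mapEquiv W.topIso.commRingCatIsoToRingEquiv.symm.toMulEquiv

theorem opnUnit_res {W W' : T.left.Opens} (h : W ≤ W') (u : (Γ(T.left, W'))ˣ) :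
    Units.map (opnLE T h).left.appTop.hom.toMonoidHom (opnUnit T W' u) =
      opnUnit T W (Units.map (resR h).toMonoidHom u) := by
  apply Units.ext
  have e : W'.topIso.inv ≫ (T.left.homOfLE h).appTop = T.left.presheaf.map (homOfLE h).op ≫ W.topIso.inv := by
    rw [Scheme.homOfLE_appTop, Scheme.Opens.topIso_inv, Scheme.Opens.topIso_inv]
    erw [← Functor.map_comp, ← Functor.map_comp]
    rfl
  exact congrArg (fun m => m.hom (u : Γ(T.left, W'))) e

theorem inc_res' {W W' : T.left.Opens} (h : W ≤ W') (u : (Γ(T.left, W'))ˣ) :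
    rA E.F (opnLE T h) (E.inc _ (opnUnit T W' u)) = E.inc _ (opnUnit T W (Units.map (resR h).toMonoidHom u)) := by
  rw [E.inc_res, opnUnit_res]

theorem mem_cover {ι : Type u} (U : ι → T.left.Opens) (hU : ∀ p, ∃ a, p ∈ U a) :
    Sieve.generate (Presieve.ofArrows (fun a => (opn T (U a)).left) fun a => (opnι T (U a)).left) ∈
      Scheme.fppfPrecoverage.toGrothendieck T.left := by
  refine Precoverage.generate_mem_toGrothendieck (J := Scheme.precoverage (Pfppf : MorphismProperty Scheme.{u})) ?_
  rw [Scheme.ofArrows_mem_precoverage_iff]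
  refine ⟨fun p => ?_, fun a => ⟨inferInstanceAs (Flat (U a).ι), inferInstanceAs (LocallyOfFinitePresentation (U a).ι)⟩⟩
  obtain ⟨a, ha⟩ := hU p
  exact ⟨a, ⟨p, ha⟩, rfl⟩

/-- A section of the quotient which lifts on an open cover of a scheme with trivial Picard group lifts. -/
theorem exists_lift_of_pic (hPic : ∀ L : T.left.Modules, PicF.IsInvertible L → Nonempty (L ≅ Coh.structureModule T.left))
    (z : G.obj.obj (op T)) {ι : Type u} (U : ι → T.left.Opens) (hU : ∀ p, ∃ a, p ∈ U a)
    (y : ∀ a, E.F.obj.obj (op (opn T (U a)))) (hy : ∀ a, E.qs _ (y a) = rA G (opnι T (U a)) z) :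
    ∃ x : E.F.obj.obj (op T), E.qs T x = z := by
  choose γ hγ using fun a b => E.exists_inc
    (rA E.F (opnLE T (inf_le_left : U a ⊓ U b ≤ U a)) (y a) - rA E.F (opnLE T (inf_le_right : U a ⊓ U b ≤ U b)) (y b))
    (by rw [map_sub, E.qs_res, E.qs_res, hy, hy, rA_comp, rA_comp, opnLE_ι, opnLE_ι, sub_self])
  let g : ∀ a b, (Γ(T.left, U a ⊓ U b))ˣ := fun a b => (opnUnit T _).symm (γ a b)
  have hg : ∀ a b (W : T.left.Opens) (ha : W ≤ U a) (hb : W ≤ U b),
      E.inc _ (opnUnit T W (Units.map (resR (le_inf ha hb)).toMonoidHom (g a b))) =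
        rA E.F (opnLE T ha) (y a) - rA E.F (opnLE T hb) (y b) := by
    intro a b W ha hb
    rw [← inc_res', MulEquiv.apply_symm_apply, hγ, map_sub, rA_comp, rA_comp, opnLE_comp, opnLE_comp]
  have hinj : ∀ W, Function.Injective fun u => E.inc _ (opnUnit T W u) := fun W a b h =>
    (opnUnit T W).injective (E.inc_injective _ h)
  let t : CocycleMod.Cocycle U :=
    { g := g
      trans := fun i j k W hi hj hk => by
        refine congrArg Units.val (a₁ := Units.map (resR (le_inf hi hk)).toMonoidHom (g i k))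
          (a₂ := Units.map (resR (le_inf hj hk)).toMonoidHom (g j k) *
            Units.map (resR (le_inf hi hj)).toMonoidHom (g i j)) (hinj W ?_)
        show E.inc _ _ = E.inc _ _
        rw [map_mul, E.inc_mul, hg i k W hi hk, hg j k W hj hk, hg i j W hi hj]
        abel }
  have hcov : iSup U = ⊤ := top_le_iff.1 fun p _ => Opens.mem_iSup.2 (hU p)
  obtain ⟨φ⟩ := hPic _ (CocycleMod.isInvertible t hcov)
  let v : ∀ a, Γ(T.left, U a) := fun a => φ.hom.app (U a) (CocycleMod.frame t a)
  have hvu : ∀ a, IsUnit (v a) := fun a => by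
    obtain ⟨r, hr⟩ := (CocycleMod.isFrame_frame t a).exists_coord le_rfl (φ.inv.app (U a) (1 : Γ(T.left, U a)))
    rw [res_self] at hr
    have h1 := congrArg (φ.hom.app (U a)) hr
    rw [Scheme.Modules.Hom.app_smul] at h1
    have h2 : φ.hom.app (U a) (φ.inv.app (U a) (1 : Γ(T.left, U a))) = (1 : Γ(T.left, U a)) := by
      have := congrArg (fun k : Coh.structureModule T.left ⟶ Coh.structureModule T.left => k.app (U a) (1 : Γ(T.left, U a))) φ.inv_hom_id
      exact this
    rw [h2] at h1
    have h3 : (1 : Γ(T.left, U a)) = r * v a := h1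
    exact IsUnit.of_mul_eq_one r (by rw [mul_comm]; exact h3.symm)
  let u : ∀ a, (Γ(T.left, U a))ˣ := fun a => (hvu a).unit
  have hu : ∀ a b, Units.map (resR (inf_le_left : U a ⊓ U b ≤ U a)).toMonoidHom (u a) =
      g a b * Units.map (resR (inf_le_right : U a ⊓ U b ≤ U b)).toMonoidHom (u b) := fun a b => by
    apply Units.ext
    have h1 := congrArg (φ.hom.app (U a ⊓ U b)) (CocycleMod.res_frame t a b)
    rw [Scheme.Modules.Hom.app_smul, app_res, app_res] at h1
    exact h1
  let y' : ∀ a, E.F.obj.obj (op (opn T (U a))) := fun a => y a - E.inc _ (opnUnit T _ (u a))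
  obtain ⟨x, hx⟩ := glueA E.F (fun a => opn T (U a)) (fun a => opnι T (U a)) (mem_cover T U hU) y'
    fun a b W p q hpq => by
    have hpq' : p.left ≫ (U a).ι = q.left ≫ (U b).ι := congrArg CommaMorphism.left hpq
    have hr : Set.range (p.left ≫ (U a).ι) ⊆ Set.range (U a ⊓ U b).ι := by
      rintro _ ⟨w, rfl⟩
      rw [Scheme.Opens.range_ι]
      refine ⟨?_, ?_⟩
      · exact ((U a).range_ι.le ⟨p.left w, rfl⟩ : _)
      · rw [hpq']; exact ((U b).range_ι.le ⟨q.left w, rfl⟩ : _)
    let m₀ := IsOpenImmersion.lift (U a ⊓ U b).ι (p.left ≫ (U a).ι) hr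
    let m : W ⟶ opn T (U a ⊓ U b) := Over.homMk m₀ (by
      show m₀ ≫ (U a ⊓ U b).ι ≫ T.hom = W.hom
      rw [← Category.assoc, IsOpenImmersion.lift_fac, Category.assoc]
      exact Over.w p)
    have hp : m ≫ opnLE T inf_le_left = p := Over.OverMorphism.ext (by
      rw [← cancel_mono (U a).ι]
      exact (Category.assoc _ _ _).trans ((congrArg (fun k => m₀ ≫ k)
        (Scheme.homOfLE_ι T.left (inf_le_left : U a ⊓ U b ≤ U a))).trans (IsOpenImmersion.lift_fac _ _ hr)))
    have hq : m ≫ opnLE T inf_le_right = q := Over.OverMorphism.ext (by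
      rw [← cancel_mono (U b).ι]
      exact (Category.assoc _ _ _).trans ((congrArg (fun k => m₀ ≫ k)
        (Scheme.homOfLE_ι T.left (inf_le_right : U a ⊓ U b ≤ U b))).trans ((IsOpenImmersion.lift_fac _ _ hr).trans hpq')))
    rw [← hp, ← hq, ← rA_comp, ← rA_comp]
    refine congrArg _ (sub_eq_zero.1 ?_)
    simp only [y', map_sub, inc_res']
    rw [hu a b, map_mul, E.inc_mul]
    have h1 := hg a b (U a ⊓ U b) inf_le_left inf_le_right
    rw [show Units.map (resR (le_inf (inf_le_left : U a ⊓ U b ≤ U a) inf_le_right)).toMonoidHom (g a b) = g a b from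
      Units.ext (resR_self _)] at h1
    rw [h1]
    abel
  refine ⟨x, eq_of_cover G _ (fun a => opnι T (U a)) (mem_cover T U hU) _ _ fun a => ?_⟩
  rw [← E.qs_res, hx, map_sub, hy, E.qs_inc, sub_zero]

/-- A section of the quotient lifts on an open cover. -/
theorem exists_lift_opens (z : G.obj.obj (op T)) :
    ∃ (ι : Type u) (U : ι → T.left.Opens), (∀ p, ∃ a, p ∈ U a) ∧
      ∀ a, ∃ y, E.qs _ y = rA G (opnι T (U a)) z := by
  have key : ∀ p : T.left, ∃ W : T.left.Opens, p ∈ W ∧ ∃ y, E.qs _ y = rA G (opnι T W) z := by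
    intro p
    obtain ⟨V, hV, hpV, -⟩ := exists_isAffineOpen_mem_and_subset (U := (⊤ : T.left.Opens)) (x := p) trivial
    let c : Spec Γ(T.left, V) ⟶ X := hV.fromSpec ≫ T.hom
    let e : Over.mk c ⟶ T := Over.homMk hV.fromSpec rfl
    obtain ⟨n, f, hf, hl⟩ := exists_lift_local E c (rA G e z)
    obtain ⟨q, hq⟩ : p ∈ Set.range hV.fromSpec := by rw [hV.range_fromSpec]; exact hpV
    obtain ⟨l, hl'⟩ : ∃ l, f l ∉ q.asIdeal := by
      by_contra h
      push Not at h
      exact q.isPrime.ne_top ((Ideal.eq_top_iff_one _).2 (hf ▸ Submodule.sum_mem _ fun i _ => h i))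
    obtain ⟨y, hy⟩ := hl l
    let j : (Ch c (Localization.Away (f l))).left ⟶ T.left :=
      (chBase c (Localization.Away (f l)) ≫ e).left
    haveI : IsOpenImmersion j := by
      haveI : IsOpenImmersion (chBase c (Localization.Away (f l))).left :=
        IsOpenImmersion.of_isLocalization (S := Localization.Away (f l)) (f l)
      exact inferInstanceAs (IsOpenImmersion (Spec.map _ ≫ hV.fromSpec))
    refine ⟨j.opensRange, ?_, ?_⟩
    · have hq' : q ∈ Set.range (Spec.map (CommRingCat.ofHom (algebraMap Γ(T.left, V) (Localization.Away (f l))))) := by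
        rw [show Set.range (Spec.map (CommRingCat.ofHom (algebraMap Γ(T.left, V) (Localization.Away (f l))))) =
          Set.range (PrimeSpectrum.comap (algebraMap Γ(T.left, V) (Localization.Away (f l)))) from rfl,
          PrimeSpectrum.localization_away_comap_range (Localization.Away (f l)) (f l)]
        exact hl'
      obtain ⟨w, hw⟩ := hq'
      exact ⟨w, (Scheme.Hom.comp_apply _ _ _).trans ((congrArg hV.fromSpec hw).trans hq)⟩
    · let η : opn T j.opensRange ⟶ Ch c (Localization.Away (f l)) := Over.homMk j.isoOpensRange.inv (by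
        rw [Iso.inv_comp_eq]
        show _ = j.isoOpensRange.hom ≫ j.opensRange.ι ≫ T.hom
        rw [← Category.assoc, Scheme.Hom.isoOpensRange_hom_ι]
        exact (Over.w (chBase c (Localization.Away (f l)) ≫ e)).symm)
      refine ⟨rA E.F η y, ?_⟩
      rw [E.qs_res, hy, rA_comp, rA_comp]
      refine congrArg (fun m => rA G m z) (Over.OverMorphism.ext ?_)
      show (j.isoOpensRange.inv ≫ (chBase c (Localization.Away (f l))).left) ≫ hV.fromSpec = j.opensRange.ι
      rw [Category.assoc, Iso.inv_comp_eq, Scheme.Hom.isoOpensRange_hom_ι]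
      rfl
  choose W hW hWy using key
  exact ⟨T.left, W, fun p => ⟨p, hW p⟩, hWy⟩

end Groth.Agent.GaExt
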